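import Cfsg.Agent.J1.Tree

/-! Conjugation certificates for the double coset representatives of `J₁`. -/

namespace CfsgLib.J1

set_option linter.style.longLine false

def cls0_0 : BT (ℕ × ℕ × ℕ) :=
  (.node 16 (.node 8 (.node 4 (.node 2 (.node 1 (.leaf (6, 0, 0)) (.leaf (6, 1, 0))) (.node 1 (.leaf (6, 2, 0)) (.leaf (11, 3, 0)))) (.node 2 (.node 1 (.leaf (0, 3, 1)) (.leaf (0, 2, 427))) (.node 1 (.leaf (0, 2, 1)) (.leaf (11, 7, 0))))) (.node 4 (.node 2 (.node 1 (.leaf (0, 7, 3)) (.leaf (0, 7, 1))) (.node 1 (.leaf (0, 7, 259)) (.leaf (0, 2, 343)))) (.node 2 (.node 1 (.leaf (0, 7, 198)) (.leaf (0, 1, 5))) (.node 1 (.leaf (0, 1, 2)) (.leaf (0, 7, 6)))))) (.node 8 (.node 4 (.node 2 (.node 1 (.leaf (10, 16, 0)) (.leaf (0, 16, 3))) (.node 1 (.leaf (0, 16, 5)) (.leaf (0, 16, 1)))) (.node 2 (.node 1 (.leaf (0, 16, 2)) (.leaf (0, 3, 2))) (.node 1 (.leaf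 (0, 3, 364)) (.leaf (0, 1, 9))))) (.node 4 (.node 2 (.node 1 (.leaf (0, 1, 4)) (.leaf (0, 3, 171))) (.node 1 (.leaf (0, 3, 286)) (.leaf (0, 2, 7)))) (.node 2 (.node 1 (.leaf (0, 3, 128)) (.leaf (0, 2, 3))) (.node 1 (.leaf (0, 3, 226)) (.leaf (0, 16, 9)))))))

def cls0_1 : BT (ℕ × ℕ × ℕ) :=
  (.node 16 (.node 8 (.node 4 (.node 2 (.node 1 (.leaf (10, 32, 0)) (.leaf (0, 32, 3))) (.node 1 (.leaf (0, 32, 4)) (.leaf (0, 3, 4)))) (.node 2 (.node 1 (.leaf (0, 32, 5)) (.leaf (0, 32, 1))) (.node 1 (.leaf (0, 32, 6)) (.leaf (0, 2, 268))))) (.node 4 (.node 2 (.node 1 (.leaf (0, 32, 2)) (.leaf (0, 7, 149))) (.node 1 (.leaf (0, 2, 205)) (.leaf (0, 3, 379)))) (.node 2 (.node 1 (.leaf (0, 2, 11)) (.leaf (0, 3, 95))) (.node 1 (.leaf (0, 32, 323)) (.leaf (0, 2, 6)))))) (.node 8 (.node 4 (.node 2 (.node 1 (.leaf (0, 32, 314)) (.leaf (0, 32, 443))) (.node 1 (.leaf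 (0, 3, 299)) (.leaf (0, 7, 16)))) (.node 2 (.node 1 (.leaf (0, 32, 250)) (.leaf (0, 32, 243))) (.node 1 (.leaf (0, 32, 361)) (.leaf (0, 7, 10))))) (.node 4 (.node 2 (.node 1 (.leaf (0, 32, 395)) (.leaf (0, 32, 396))) (.node 1 (.leaf (0, 16, 7)) (.leaf (0, 32, 9)))) (.node 2 (.node 1 (.leaf (6, 60, 0)) (.leaf (0, 60, 3))) (.node 1 (.leaf (0, 60, 10)) (.leaf (0, 2, 211)))))))

def cls0_2 : BT (ℕ × ℕ × ℕ) :=
  (.node 16 (.node 8 (.node 4 (.node 2 (.node 1 (.leaf (0, 60, 4)) (.leaf (0, 7, 111))) (.node 1 (.leaf (0, 2, 155)) (.leaf (0, 7, 326)))) (.node 2 (.node 1 (.leaf (0, 60, 5)) (.leaf (0, 60, 1))) (.node 1 (.leaf (0, 60, 6)) (.leaf (0, 1, 21))))) (.node 4 (.node 2 (.node 1 (.leaf (0, 60, 13)) (.leaf (0, 1, 13))) (.node 1 (.leaf (0, 7, 253)) (.leaf (0, 60, 2)))) (.node 2 (.node 1 (.leaf (0, 3, 220)) (.leaf (0, 1, 14))) (.node 1 (.leaf (0, 1,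 8)) (.leaf (0, 7, 409)))))) (.node 8 (.node 4 (.node 2 (.node 1 (.leaf (0, 3, 223)) (.leaf (0, 7, 23))) (.node 1 (.leaf (0, 32, 191)) (.leaf (0, 60, 218)))) (.node 2 (.node 1 (.leaf (0, 32, 184)) (.leaf (0, 32, 117))) (.node 1 (.leaf (0, 60, 351)) (.leaf (0, 7, 15))))) (.node 4 (.node 2 (.node 1 (.leaf (0, 60, 168)) (.leaf (0, 32, 208))) (.node 1 (.leaf (0, 60, 288)) (.leaf (0, 16, 11)))) (.node 2 (.node 1 (.leaf (0, 3, 169)) (.leaf (0, 16, 21))) (.node 1 (.leaf (0, 60, 164)) (.leaf (0, 32, 87)))))))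

def cls0_3 : BT (ℕ × ℕ × ℕ) :=
  (.node 16 (.node 8 (.node 4 (.node 2 (.node 1 (.leaf (0, 60, 275)) (.leaf (0, 60, 125))) (.node 1 (.leaf (0, 32, 157)) (.leaf (0, 60, 323)))) (.node 2 (.node 1 (.leaf (0, 3, 13)) (.leaf (0, 16, 14))) (.node 1 (.leaf (0, 60, 221)) (.leaf (0, 32, 158))))) (.node 4 (.node 2 (.node 1 (.leaf (0, 32, 7)) (.leaf (0, 60, 222))) (.node 1 (.leaf (0, 32, 8)) (.leaf (0, 3, 8)))) (.node 2 (.node 1 (.leaf (0, 60, 9)) (.leaf (0, 60, 103))) (.node 1 (.leaf (0, 60, 104)) (.leaf (0, 60, 166)))))) (.node 8 (.node 4 (.node 2 (.node 1 (.leaf (0, 1, 30)) (.leaf (0, 60, 105))) (.node 1 (.leaf (0, 1, 19)) (.leaf (0, 7, 194)))) (.node 2 (.node 1 (.leaf (0, 60, 89)) (.leaf (0, 60, 106))) (.node 1 (.leaf (0, 3, 167)) (.leaf (0, 1, 20))))) (.node 4 (.node 2 (.node 1 (.leaf (0, 60, 161)) (.leaf (0, 1, 12))) (.node 1 (.leaf (0, 60, 95))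 (.leaf (0, 60, 160)))) (.node 2 (.node 1 (.leaf (0, 60, 186)) (.leaf (0, 60, 77))) (.node 1 (.leaf (0, 60, 140)) (.leaf (0, 2, 25)))))))

def cls0_4 : BT (ℕ × ℕ × ℕ) :=
  (.node 16 (.node 8 (.node 4 (.node 2 (.node 1 (.leaf (0, 60, 124)) (.leaf (0, 3, 70))) (.node 1 (.leaf (0, 60, 65)) (.leaf (0, 60, 78)))) (.node 2 (.node 1 (.leaf (0, 2, 16)) (.leaf (0, 60, 171))) (.node 1 (.leaf (0, 60, 70)) (.leaf (0, 60, 119))))) (.node 4 (.node 2 (.node 1 (.leaf (0, 60, 139)) (.leaf (0, 3, 231))) (.node 1 (.leaf (0, 2, 17)) (.leaf (0, 3, 98)))) (.node 2 (.node 1 (.leaf (0, 60, 120)) (.leaf (0, 2, 10))) (.node 1 (.leaf (0, 60, 128)) (.leaf (0, 60, 129)))))) (.node 8 (.node 4 (.node 2 (.node 1 (.leaf (0, 32, 283)) (.leaf (0, 7, 256))) (.node 1 (.leaf (0, 16, 30)) (.leaf (0, 60, 123)))) (.node 2 (.node 1 (.leaf (0, 16, 317)) (.leaf (0, 32, 64))) (.node 1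 (.leaf (0, 2, 89)) (.leaf (0, 16, 351))))) (.node 4 (.node 2 (.node 1 (.leaf (0, 60, 93)) (.leaf (0, 2, 62))) (.node 1 (.leaf (0, 2, 160)) (.leaf (0, 16, 476)))) (.node 2 (.node 1 (.leaf (0, 3, 19)) (.leaf (0, 16, 20))) (.node 1 (.leaf (0, 16, 321)) (.leaf (0, 2, 113)))))))

def cls0_5 : BT (ℕ × ℕ × ℕ) :=
  (.node 16 (.node 8 (.node 4 (.node 2 (.node 1 (.leaf (0, 2, 114)) (.leaf (0, 32, 11))) (.node 1 (.leaf (0, 16, 488)) (.leaf (0, 32, 12)))) (.node 2 (.node 1 (.leaf (0, 3, 12)) (.leaf (0, 7, 338))) (.node 1 (.leaf (0, 7, 196)) (.leaf (0, 32, 21))))) (.node 4 (.node 2 (.node 1 (.leaf (0, 16, 245)) (.leaf (0, 2, 65))) (.node 1 (.leaf (0, 16, 275)) (.leaf (0, 2, 45)))) (.node 2 (.node 1 (.leaf (0, 2, 119)) (.leaf (0, 16, 392))) (.node 1 (.leaf (0, 2, 159)) (.leaf (0, 16, 248)))))) (.node 8 (.node 4 (.node 2 (.node 1 (.leaf (0, 2, 84)) (.leaf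 (0, 7, 82))) (.node 1 (.leaf (0, 16, 444)) (.leaf (0, 2, 115)))) (.node 2 (.node 1 (.leaf (0, 7, 264)) (.leaf (0, 32, 14))) (.node 1 (.leaf (0, 16, 400)) (.leaf (0, 2, 120))))) (.node 4 (.node 2 (.node 1 (.leaf (0, 60, 7)) (.leaf (0, 2, 85))) (.node 1 (.leaf (0, 60, 16)) (.leaf (0, 2, 118)))) (.node 2 (.node 1 (.leaf (0, 16, 404)) (.leaf (0, 60, 8))) (.node 1 (.leaf (0, 7, 114)) (.leaf (0, 2, 206)))))))

def cls0_6 : BT (ℕ × ℕ × ℕ) :=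
  (.node 16 (.node 8 (.node 4 (.node 2 (.node 1 (.leaf (0, 7, 421)) (.leaf (0, 60, 213))) (.node 1 (.leaf (0, 32, 125)) (.leaf (0, 32, 50)))) (.node 2 (.node 1 (.leaf (0, 32, 51)) (.leaf (0, 2, 35))) (.node 1 (.leaf (0, 32, 66)) (.leaf (0, 3, 52))))) (.node 4 (.node 2 (.node 1 (.leaf (0, 60, 48)) (.leaf (0, 16, 242))) (.node 1 (.leaf (0, 32, 67)) (.leaf (0, 2, 23)))) (.node 2 (.node 1 (.leaf (0, 2, 157)) (.leaf (0, 60, 52))) (.node 1 (.leaf (0, 2, 270)) (.leaf (0, 16, 393)))))) (.node 8 (.node 4 (.node 2 (.node 1 (.leaf (0, 32, 123)) (.leaf (0, 3, 175))) (.node 1 (.leaf (0, 2, 24)) (.leaf (0, 16, 394)))) (.node 2 (.node 1 (.leaf (0, 3, 73)) (.leaf (0, 2, 208))) (.node 1 (.leaf (0, 2, 158)) (.leaf (0, 2, 15))))) (.node 4 (.node 2 (.node 1 (.leaf (0, 16, 407)) (.leaf (0, 2, 271))) (.node 1 (.leaf (0, 16, 441)) (.leaf (0, 32, 218)))) (.node 2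 (.node 1 (.leaf (0, 32, 93)) (.leaf (0, 32, 36))) (.node 1 (.leaf (0, 7, 46)) (.leaf (0, 32, 69)))))))

def cls0_7 : BT (ℕ × ℕ × ℕ) :=
  (.node 16 (.node 8 (.node 4 (.node 2 (.node 1 (.leaf (0, 32, 143)) (.leaf (0, 16, 183))) (.node 1 (.leaf (0, 32, 49)) (.leaf (0, 32, 138)))) (.node 2 (.node 1 (.leaf (0, 2, 273)) (.leaf (0, 2, 274))) (.node 1 (.leaf (0, 16, 312)) (.leaf (0, 32, 91))))) (.node 4 (.node 2 (.node 1 (.leaf (0, 7, 32)) (.leaf (0, 16, 348))) (.node 1 (.leaf (0, 2, 117)) (.leaf (0, 16, 324)))) (.node 2 (.node 1 (.leaf (0, 2, 207)) (.leaf (0, 16, 359))) (.node 1 (.leaf (0, 16, 25)) (.leaf (0, 32, 164)))))) (.node 8 (.node 4 (.node 2 (.node 1 (.leaf (0, 3, 126)) (.leaf (0, 7, 33))) (.node 1 (.leaf (0, 32, 251)) (.leaf (0, 16, 313)))) (.node 2 (.node 1 (.leaf (0, 32, 102)) (.leaf (0, 2, 209))) (.node 1 (.leaf (0, 60, 210)) (.leaf (0,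 7, 22))))) (.node 4 (.node 2 (.node 1 (.leaf (0, 16, 478)) (.leaf (0, 32, 273))) (.node 1 (.leaf (0, 16, 492)) (.leaf (0, 60, 250)))) (.node 2 (.node 1 (.leaf (0, 16, 17)) (.leaf (0, 32, 30))) (.node 1 (.leaf (0, 16, 187)) (.leaf (0, 2, 350)))))))

def cls0_8 : BT (ℕ × ℕ × ℕ) :=
  (.node 16 (.node 8 (.node 4 (.node 2 (.node 1 (.leaf (0, 2, 48)) (.leaf (0, 7, 84))) (.node 1 (.leaf (0, 2, 253)) (.leaf (0, 2, 33)))) (.node 2 (.node 1 (.leaf (0, 16, 347)) (.leaf (0, 7, 85))) (.node 1 (.leaf (0, 2, 108)) (.leaf (0, 2, 210))))) (.node 4 (.node 2 (.node 1 (.leaf (0, 16, 189)) (.leaf (0, 7, 201))) (.node 1 (.leaf (0, 16, 157)) (.leaf (0, 7, 61)))) (.node 2 (.node 1 (.leaf (0, 2, 109)) (.leaf (0, 2, 86))) (.node 1 (.leaf (0, 7, 202)) (.leaf (0, 60, 20)))))) (.node 8 (.node 4 (.node 2 (.node 1 (.leaf (0, 32, 20)) (.leaf (0, 2, 412))) (.node 1 (.leaf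 (0, 7, 152)) (.leaf (0, 16, 158)))) (.node 2 (.node 1 (.leaf (0, 60, 11)) (.leaf (0, 7, 83))) (.node 1 (.leaf (0, 2, 88)) (.leaf (0, 60, 40))))) (.node 4 (.node 2 (.node 1 (.leaf (0, 2, 195)) (.leaf (0, 60, 12))) (.node 1 (.leaf (0, 60, 75)) (.leaf (0, 2, 255)))) (.node 2 (.node 1 (.leaf (0, 60, 58)) (.leaf (0, 60, 21))) (.node 1 (.leaf (0, 2, 517)) (.leaf (0, 7, 146)))))))

def cls0_9 : BT (ℕ × ℕ × ℕ) :=
  (.node 16 (.node 8 (.node 4 (.node 2 (.node 1 (.leaf (0, 2, 275)) (.leaf (0, 16, 274))) (.node 1 (.leaf (0, 7, 62)) (.leaf (0, 2, 194)))) (.node 2 (.node 1 (.leaf (0, 1, 58)) (.leaf (0, 7, 151))) (.node 1 (.leaf (0, 16, 273)) (.leaf (0, 1, 29))))) (.node 4 (.node 2 (.node 1 (.leaf (0, 2, 80)) (.leaf (0, 7, 145))) (.node 1 (.leaf (0, 60, 41)) (.leaf (0, 2, 327)))) (.node 2 (.node 1 (.leaf (0, 7, 263)) (.leaf (0, 16, 117))) (.node 1 (.leaf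 (0, 3, 124)) (.leaf (0, 60, 76)))))) (.node 8 (.node 4 (.node 2 (.node 1 (.leaf (0, 2, 146)) (.leaf (0, 1, 27))) (.node 1 (.leaf (0, 60, 107)) (.leaf (0, 60, 42)))) (.node 2 (.node 1 (.leaf (0, 60, 14)) (.leaf (0, 2, 432))) (.node 1 (.leaf (0, 7, 113)) (.leaf (0, 60, 56))))) (.node 4 (.node 2 (.node 1 (.leaf (0, 16, 209)) (.leaf (0, 60, 219))) (.node 1 (.leaf (0, 1, 42)) (.leaf (0, 7, 112)))) (.node 2 (.node 1 (.leaf (0, 60, 92)) (.leaf (0, 7, 108))) (.node 1 (.leaf (0, 60, 29)) (.leaf (0, 2, 254)))))))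

def cls0_10 : BT (ℕ × ℕ × ℕ) :=
  (.node 16 (.node 8 (.node 4 (.node 2 (.node 1 (.leaf (0, 60, 57)) (.leaf (0, 3, 92))) (.node 1 (.leaf (0, 60, 55)) (.leaf (0, 1, 18)))) (.node 2 (.node 1 (.leaf (0, 60, 79)) (.leaf (0, 60, 30))) (.node 1 (.leaf (0, 16, 34)) (.leaf (0, 16, 64))))) (.node 4 (.node 2 (.node 1 (.leaf (0, 7, 63)) (.leaf (0, 32, 107))) (.node 1 (.leaf (0, 16, 138)) (.leaf (0, 1, 137)))) (.node 2 (.node 1 (.leaf (0, 16, 208)) (.leaf (0, 32, 183))) (.node 1 (.leaf (0, 32, 227)) (.leaf (0, 2, 334)))))) (.node 8 (.node 4 (.node 2 (.node 1 (.leaf (0, 32, 354)) (.leaf (0, 1, 75))) (.node 1 (.leaf (0, 16, 91)) (.leaf (0, 7, 44)))) (.node 2 (.node 1 (.leaf (0, 32, 89)) (.leaf (0, 32, 279))) (.node 1 (.leaf (0, 16, 251)) (.leaf (0, 32, 245))))) (.node 4 (.node 2 (.node 1 (.leaf (0, 32, 226)) (.leaf (0, 1, 76))) (.node 1 (.leaf (0, 16, 35))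 (.leaf (0, 3, 94)))) (.node 2 (.node 1 (.leaf (0, 7, 45)) (.leaf (0, 1, 55))) (.node 1 (.leaf (0, 32, 324)) (.leaf (0, 32, 95)))))))

def cls0_11 : BT (ℕ × ℕ × ℕ) :=
  (.node 16 (.node 8 (.node 4 (.node 2 (.node 1 (.leaf (0, 32, 160)) (.leaf (0, 32, 76))) (.node 1 (.leaf (0, 32, 161)) (.leaf (0, 32, 399)))) (.node 2 (.node 1 (.leaf (0, 60, 159)) (.leaf (0, 7, 31))) (.node 1 (.leaf (0, 1, 102)) (.leaf (0, 32, 172))))) (.node 4 (.node 2 (.node 1 (.leaf (0, 32, 347)) (.leaf (0, 1, 138))) (.node 1 (.leaf (0, 60, 191)) (.leaf (0, 16, 24)))) (.node 2 (.node 1 (.leaf (0, 16, 47)) (.leaf (0, 16, 58))) (.node 1 (.leaf (0, 16, 87)) (.leaf (0, 60, 91)))))) (.node 8 (.node 4 (.node 2 (.node 1 (.leaf (0, 1, 101)) (.leaf (0, 32, 47))) (.node 1 (.leaf (0, 32, 171)) (.leaf (0, 32, 277)))) (.node 2 (.node 1 (.leaf (0, 16, 165)) (.leaf (0, 60, 68))) (.node 1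 (.leaf (0, 32, 65)) (.leaf (0, 32, 214))))) (.node 4 (.node 2 (.node 1 (.leaf (0, 32, 220)) (.leaf (0, 32, 373))) (.node 1 (.leaf (0, 3, 39)) (.leaf (0, 16, 67)))) (.node 2 (.node 1 (.leaf (0, 16, 41)) (.leaf (0, 1, 40))) (.node 1 (.leaf (0, 32, 70)) (.leaf (0, 32, 119)))))))

def cls0_12 : BT (ℕ × ℕ × ℕ) :=
  (.node 16 (.node 8 (.node 4 (.node 2 (.node 1 (.leaf (0, 32, 356)) (.leaf (0, 32, 25))) (.node 1 (.leaf (0, 1, 184)) (.leaf (0, 32, 187)))) (.node 2 (.node 1 (.leaf (0, 32, 27)) (.leaf (0, 3, 27))) (.node 1 (.leaf (0, 7, 147)) (.leaf (0, 16, 42))))) (.node 4 (.node 2 (.node 1 (.leaf (0, 60, 165)) (.leaf (0, 32, 88))) (.node 1 (.leaf (0, 32, 128)) (.leaf (0, 32, 212)))) (.node 2 (.node 1 (.leaf (0, 16, 210)) (.leaf (0, 60, 50))) (.node 1 (.leaf (0, 32, 120)) (.leaf (0, 32, 317)))))) (.node 8 (.node 4 (.node 2 (.node 1 (.leaf (0, 16, 310))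 (.leaf (0, 3, 28))) (.node 1 (.leaf (0, 16, 29)) (.leaf (0, 32, 129)))) (.node 2 (.node 1 (.leaf (0, 2, 153)) (.leaf (0, 32, 17))) (.node 1 (.leaf (0, 16, 362)) (.leaf (0, 32, 18))))) (.node 4 (.node 2 (.node 1 (.leaf (0, 3, 18)) (.leaf (0, 2, 442))) (.node 1 (.leaf (0, 2, 61)) (.leaf (0, 7, 109)))) (.node 2 (.node 1 (.leaf (0, 60, 130)) (.leaf (0, 2, 111))) (.node 1 (.leaf (0, 60, 143)) (.leaf (0, 2, 198)))))))

def cls0_13 : BT (ℕ × ℕ × ℕ) :=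
  (.node 16 (.node 8 (.node 4 (.node 2 (.node 1 (.leaf (0, 7, 200)) (.leaf (0, 32, 71))) (.node 1 (.leaf (0, 2, 332)) (.leaf (0, 7, 193)))) (.node 2 (.node 1 (.leaf (0, 2, 49)) (.leaf (0, 2, 260))) (.node 1 (.leaf (0, 60, 64)) (.leaf (0, 3, 166))))) (.node 4 (.node 2 (.node 1 (.leaf (0, 60, 102)) (.leaf (0, 3, 53))) (.node 1 (.leaf (0, 2, 360)) (.leaf (0, 1, 37)))) (.node 2 (.node 1 (.leaf (0, 16, 240)) (.leaf (0, 3, 230))) (.node 1 (.leaf (0, 2, 90)) (.leaf (0, 60, 117)))))) (.node 8 (.node 4 (.node 2 (.node 1 (.leaf (0, 32, 48)) (.leaf (0, 1, 57))) (.node 1 (.leaf (0, 2, 91)) (.leaf (0, 60, 118)))) (.node 2 (.node 1 (.leaf (0, 7, 80)) (.leaf (0, 16, 101))) (.node 1 (.leaf (0, 3, 97)) (.leaf (0, 2, 163))))) (.node 4 (.node 2 (.node 1 (.leaf (0, 3, 68)) (.leaf (0, 2, 60))) (.node 1 (.leaf (0, 16, 182)) (.leaf (0, 2, 22)))) (.node 2 (.node 1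 (.leaf (0, 3, 96)) (.leaf (0, 2, 44))) (.node 1 (.leaf (0, 60, 96)) (.leaf (0, 2, 82)))))))

def cls0_14 : BT (ℕ × ℕ × ℕ) :=
  (.node 16 (.node 8 (.node 4 (.node 2 (.node 1 (.leaf (0, 60, 173)) (.leaf (0, 2, 149))) (.node 1 (.leaf (0, 2, 67)) (.leaf (0, 32, 52)))) (.node 2 (.node 1 (.leaf (0, 3, 37)) (.leaf (0, 2, 259))) (.node 1 (.leaf (0, 60, 34)) (.leaf (0, 60, 47))))) (.node 4 (.node 2 (.node 1 (.leaf (0, 2, 46)) (.leaf (0, 3, 38))) (.node 1 (.leaf (0, 2, 416)) (.leaf (0, 60, 37)))) (.node 2 (.node 1 (.leaf (0, 16, 181)) (.leaf (0, 2, 66))) (.node 1 (.leaf (0, 60, 87)) (.leaf (0, 3, 131)))))) (.node 8 (.node 4 (.node 2 (.node 1 (.leaf (0, 32, 34)) (.leaf (0, 2, 110))) (.node 1 (.leaf (0, 16, 75)) (.leaf (0, 3, 72)))) (.node 2 (.node 1 (.leaf (0, 2, 282)) (.leaf (0, 2, 32))) (.node 1 (.leaf (0, 2, 43)) (.leaf (0, 16, 309))))) (.node 4 (.node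 2 (.node 1 (.leaf (0, 3, 174)) (.leaf (0, 2, 83))) (.node 1 (.leaf (0, 60, 157)) (.leaf (0, 32, 68)))) (.node 2 (.node 1 (.leaf (0, 32, 26)) (.leaf (0, 32, 90))) (.node 1 (.leaf (0, 3, 71)) (.leaf (0, 60, 24)))))))

def cls0_15 : BT (ℕ × ℕ × ℕ) :=
  (.node 16 (.node 8 (.node 4 (.node 2 (.node 1 (.leaf (0, 60, 88)) (.leaf (0, 32, 35))) (.node 1 (.leaf (0, 60, 71)) (.leaf (0, 16, 136)))) (.node 2 (.node 1 (.leaf (0, 16, 278)) (.leaf (0, 2, 122))) (.node 1 (.leaf (0, 32, 165)) (.leaf (0, 2, 34))))) (.node 4 (.node 2 (.node 1 (.leaf (0, 2, 81)) (.leaf (0, 16, 137))) (.node 1 (.leaf (0, 2, 87)) (.leaf (0, 2, 31)))) (.node 2 (.node 1 (.leaf (0, 2, 156)) (.leaf (0, 16, 281))) (.node 1 (.leaf (0, 3, 36)) (.leaf (0, 16, 79)))))) (.node 8 (.node 4 (.node 2 (.node 1 (.leaf (0, 60, 67)) (.leaf (0, 1, 136))) (.node 1 (.leaf (0, 16, 159)) (.leaf (0, 32,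 285)))) (.node 2 (.node 1 (.leaf (0, 3, 100)) (.leaf (0, 3, 135))) (.node 1 (.leaf (0, 1, 248)) (.leaf (0, 32, 167))))) (.node 4 (.node 2 (.node 1 (.leaf (0, 1, 70)) (.leaf (0, 3, 173))) (.node 1 (.leaf (0, 3, 54)) (.leaf (0, 16, 56)))) (.node 2 (.node 1 (.leaf (0, 1, 105)) (.leaf (0, 3, 125))) (.node 1 (.leaf (0, 1, 243)) (.leaf (0, 3, 26)))))))

def cls0_16 : BT (ℕ × ℕ × ℕ) :=
  (.node 16 (.node 8 (.node 4 (.node 2 (.node 1 (.leaf (0, 1, 71)) (.leaf (0, 32, 37))) (.node 1 (.leaf (0, 7, 110)) (.leaf (0, 16, 57)))) (.node 2 (.node 1 (.leaf (0, 16, 276)) (.leaf (0, 1, 297))) (.node 1 (.leaf (0, 1, 106)) (.leaf (0, 60, 36))))) (.node 4 (.node 2 (.node 1 (.leaf (0, 3, 50)) (.leaf (0, 16, 241))) (.node 1 (.leaf (0, 32, 40)) (.leaf (0, 16, 40)))) (.node 2 (.node 1 (.leaf (0, 16, 218)) (.leaf (0, 1, 130))) (.node 1 (.leaf (0, 2, 203)) (.leaf (0,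 32, 24)))))) (.node 8 (.node 4 (.node 2 (.node 1 (.leaf (0, 32, 75)) (.leaf (0, 16, 284))) (.node 1 (.leaf (0, 32, 136)) (.leaf (0, 32, 58)))) (.node 2 (.node 1 (.leaf (0, 16, 140)) (.leaf (0, 16, 118))) (.node 1 (.leaf (0, 3, 130)) (.leaf (0, 3, 74))))) (.node 4 (.node 2 (.node 1 (.leaf (0, 1, 404)) (.leaf (0, 1, 129))) (.node 1 (.leaf (0, 16, 141)) (.leaf (0, 1, 189)))) (.node 2 (.node 1 (.leaf (0, 3, 51)) (.leaf (0, 1, 52))) (.node 1 (.leaf (0, 2, 63)) (.leaf (0, 32, 41)))))))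

def cls0_17 : BT (ℕ × ℕ × ℕ) :=
  (.node 16 (.node 8 (.node 4 (.node 2 (.node 1 (.leaf (0, 16, 361)) (.leaf (0, 1, 229))) (.node 1 (.leaf (0, 1, 78)) (.leaf (0, 60, 25)))) (.node 2 (.node 1 (.leaf (0, 3, 93)) (.leaf (0, 2, 64))) (.node 1 (.leaf (0, 16, 164)) (.leaf (0, 1, 96))))) (.node 4 (.node 2 (.node 1 (.leaf (0, 60, 27)) (.leaf (0, 32, 121))) (.node 1 (.leaf (0, 32, 42)) (.leaf (0, 16, 246)))) (.node 2 (.node 1 (.leaf (0, 16, 211)) (.leaf (0, 1, 321))) (.node 1 (.leaf (0, 1, 95)) (.leaf (0, 2, 145)))))) (.node 8 (.node 4 (.node 2 (.node 1 (.leaf (0, 16, 105)) (.leaf (0, 2, 59))) (.node 1 (.leaf (0, 2, 116)) (.leaf (0, 32, 29)))) (.node 2 (.node 1 (.leaf (0, 16, 283)) (.leaf (0, 1, 173))) (.node 1 (.leaf (0, 60, 17)) (.leaf (0, 2, 47))))) (.node 4 (.node 2 (.node 1 (.leaf (0, 32, 55)) (.leaf (0, 60, 18))) (.node 1 (.leaf (0, 32, 101))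 (.leaf (0, 32, 79)))) (.node 2 (.node 1 (.leaf (0, 16, 143)) (.leaf (0, 16, 121))) (.node 1 (.leaf (0, 16, 144)) (.leaf (0, 16, 122)))))))

def cls0_18 : BT (ℕ × ℕ × ℕ) :=
  (.node 16 (.node 8 (.node 4 (.node 2 (.node 1 (.leaf (0, 16, 186)) (.leaf (0, 1, 141))) (.node 1 (.leaf (0, 16, 119)) (.leaf (0, 16, 184)))) (.node 2 (.node 1 (.leaf (0, 1, 239)) (.leaf (0, 7, 156))) (.node 1 (.leaf (0, 16, 55)) (.leaf (0, 16, 120))))) (.node 4 (.node 2 (.node 1 (.leaf (0, 16, 250)) (.leaf (0, 1, 230))) (.node 1 (.leaf (0, 32, 92)) (.leaf (0, 16, 76)))) (.node 2 (.node 1 (.leaf (0, 16, 214)) (.leaf (0, 32, 219))) (.node 1 (.leaf (0, 7, 43)) (.leaf (0, 16, 216)))))) (.node 8 (.node 4 (.node 2 (.node 1 (.leaf (0, 16, 107)) (.leaf (0, 16, 90))) (.node 1 (.leaf (0, 7, 116)) (.leaf (0, 16, 139)))) (.node 2 (.node 1 (.leaf (0, 16, 102)) (.leaf (0, 32, 313)))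 (.node 1 (.leaf (0, 16, 190)) (.leaf (0, 2, 261))))) (.node 4 (.node 2 (.node 1 (.leaf (0, 1, 188)) (.leaf (0, 16, 89))) (.node 1 (.leaf (0, 16, 191)) (.leaf (0, 16, 243)))) (.node 2 (.node 1 (.leaf (0, 1, 181)) (.leaf (0, 3, 69))) (.node 1 (.leaf (0, 32, 372)) (.leaf (0, 1, 174)))))))

def cls0_19 : BT (ℕ × ℕ × ℕ) :=
  (.node 16 (.node 8 (.node 4 (.node 2 (.node 1 (.leaf (0, 16, 161)) (.leaf (0, 7, 60))) (.node 1 (.leaf (0, 32, 478)) (.leaf (0, 16, 48)))) (.node 2 (.node 1 (.leaf (0, 16, 88)) (.leaf (0, 7, 86))) (.node 1 (.leaf (0, 32, 242)) (.leaf (0, 2, 199))))) (.node 4 (.node 2 (.node 1 (.leaf (0, 16, 123)) (.leaf (0, 32, 293))) (.node 1 (.leaf (0, 16, 49)) (.leaf (0, 3, 99)))) (.node 2 (.node 1 (.leaf (0, 32, 407)) (.leaf (0, 32, 105))) (.node 1 (.leaf (0, 32, 312)) (.leaf (0, 7, 59)))))) (.node 8 (.node 4 (.node 2 (.node 1 (.leaf (0,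 32, 140)) (.leaf (0, 32, 394))) (.node 1 (.leaf (0, 16, 104)) (.leaf (0, 60, 35)))) (.node 2 (.node 1 (.leaf (0, 16, 78)) (.leaf (0, 1, 172))) (.node 1 (.leaf (0, 32, 104)) (.leaf (0, 16, 162))))) (.node 4 (.node 2 (.node 1 (.leaf (0, 32, 57)) (.leaf (0, 32, 56))) (.node 1 (.leaf (0, 16, 323)) (.leaf (0, 16, 279)))) (.node 2 (.node 1 (.leaf (0, 16, 77)) (.leaf (0, 60, 66))) (.node 1 (.leaf (0, 16, 142)) (.leaf (0, 60, 51)))))))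

def cls0_20 : BT (ℕ × ℕ × ℕ) :=
  (.node 10 (.node 5 (.node 2 (.node 1 (.leaf (0, 60, 26)) (.leaf (0, 2, 217))) (.node 1 (.leaf (0, 32, 77)) (.node 1 (.leaf (0, 32, 103)) (.leaf (0, 16, 65))))) (.node 2 (.node 1 (.leaf (0, 60, 94)) (.leaf (0, 16, 66))) (.node 1 (.leaf (0, 16, 103)) (.node 1 (.leaf (0, 60, 49)) (.leaf (0, 16, 106)))))) (.node 5 (.node 2 (.node 1 (.leaf (0, 2, 150)) (.leaf (0, 32, 78))) (.node 1 (.leaf (0, 60, 69)) (.node 1 (.leaf (0, 60, 158)) (.leaf (0, 60, 209))))) (.node 2 (.node 1 (.leaf (0, 32, 166)) (.leaf (0, 7, 81))) (.node 1 (.leaf (0, 7, 115)) (.node 1 (.leaf (0, 32, 124)) (.leaf (0, 60, 126)))))))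

/-- Table `cls0`. -/
def cls0 : BT (ℕ × ℕ × ℕ) :=
  (.node 320 (.node 160 (.node 64 (.node 32 cls0_0 cls0_1) (.node 32 cls0_2 (.node 32 cls0_3 cls0_4))) (.node 64 (.node 32 cls0_5 cls0_6) (.node 32 cls0_7 (.node 32 cls0_8 cls0_9)))) (.node 160 (.node 64 (.node 32 cls0_10 cls0_11) (.node 32 cls0_12 (.node 32 cls0_13 cls0_14))) (.node 96 (.node 32 cls0_15 (.node 32 cls0_16 cls0_17)) (.node 32 cls0_18 (.node 32 cls0_19 cls0_20)))))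

def cls1_0 : BT (ℕ × ℕ × ℕ) :=
  (.node 16 (.node 8 (.node 4 (.node 2 (.node 1 (.leaf (7, 0, 0)) (.leaf (7, 1, 0))) (.node 1 (.leaf (6, 2, 0)) (.leaf (0, 0, 351)))) (.node 2 (.node 1 (.leaf (11, 4, 0)) (.leaf (15, 5, 0))) (.node 1 (.leaf (11, 6, 0)) (.leaf (11, 7, 0))))) (.node 4 (.node 2 (.node 1 (.leaf (6, 8, 0)) (.leaf (6, 9, 0))) (.node 1 (.leaf (0, 0, 384)) (.leaf (10, 11, 0)))) (.node 2 (.node 1 (.leaf (10, 12, 0)) (.leaf (19, 13, 0))) (.node 1 (.leaf (7, 14, 0)) (.leaf (10, 15, 0)))))) (.node 8 (.node 4 (.node 2 (.node 1 (.leaf (15, 16, 0)) (.leaf (6, 17, 0))) (.node 1 (.leaf (19, 18, 0)) (.leaf (19, 19, 0)))) (.node 2 (.node 1 (.leaf (6, 20, 0)) (.leaf (19, 21, 0))) (.node 1 (.leaf (0, 9, 601)) (.leaf (10, 23, 0))))) (.node 4 (.node 2 (.node 1 (.leaf (6, 24, 0)) (.leaf (6, 25, 0))) (.node 1 (.leaf (7, 26, 0)) (.leaf (19, 27, 0))))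 (.node 2 (.node 1 (.leaf (7, 28, 0)) (.leaf (7, 29, 0))) (.node 1 (.leaf (0, 0, 636)) (.leaf (15, 31, 0)))))))

def cls1_1 : BT (ℕ × ℕ × ℕ) :=
  (.node 16 (.node 8 (.node 4 (.node 2 (.node 1 (.leaf (6, 32, 0)) (.leaf (7, 33, 0))) (.node 1 (.leaf (10, 34, 0)) (.leaf (10, 35, 0)))) (.node 2 (.node 1 (.leaf (6, 36, 0)) (.leaf (10, 37, 0))) (.node 1 (.leaf (0, 13, 601)) (.leaf (15, 39, 0))))) (.node 4 (.node 2 (.node 1 (.leaf (10, 40, 0)) (.leaf (7, 41, 0))) (.node 1 (.leaf (19, 42, 0)) (.leaf (0, 9, 384)))) (.node 2 (.node 1 (.leaf (6, 44, 0)) (.leaf (15, 45, 0))) (.node 1 (.leaf (7, 46, 0)) (.leaf (15, 47, 0)))))) (.node 8 (.node 4 (.node 2 (.node 1 (.leaf (19, 48, 0)) (.leaf (11, 49, 0))) (.node 1 (.leaf (10, 50, 0)) (.leaf (10, 51, 0)))) (.node 2 (.node 1 (.leaf (0, 42, 636)) (.leaf (10, 53, 0))) (.node 1 (.leaf (19, 54, 0)) (.leaf (10, 55,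 0))))) (.node 4 (.node 2 (.node 1 (.leaf (0, 27, 601)) (.leaf (10, 57, 0))) (.node 1 (.leaf (6, 58, 0)) (.leaf (10, 59, 0)))) (.node 2 (.node 1 (.leaf (19, 60, 0)) (.leaf (11, 61, 0))) (.node 1 (.leaf (7, 62, 0)) (.leaf (0, 48, 601)))))))

def cls1_2 : BT (ℕ × ℕ × ℕ) :=
  (.node 16 (.node 8 (.node 4 (.node 2 (.node 1 (.leaf (10, 64, 0)) (.leaf (10, 65, 0))) (.node 1 (.leaf (19, 66, 0)) (.leaf (6, 67, 0)))) (.node 2 (.node 1 (.leaf (0, 66, 601)) (.leaf (6, 69, 0))) (.node 1 (.leaf (7, 70, 0)) (.leaf (10, 71, 0))))) (.node 4 (.node 2 (.node 1 (.leaf (11, 72, 0)) (.leaf (10, 73, 0))) (.node 1 (.leaf (0, 58, 636)) (.leaf (0, 73, 384)))) (.node 2 (.node 1 (.leaf (0, 65, 601)) (.leaf (0, 55, 351))) (.node 1 (.leaf (11, 78, 0)) (.leaf (15, 79, 0)))))) (.node 8 (.node 4 (.node 2 (.node 1 (.leaf (0, 9, 636)) (.leaf (10, 81, 0))) (.node 1 (.leaf (19,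 82, 0)) (.leaf (15, 83, 0)))) (.node 2 (.node 1 (.leaf (10, 84, 0)) (.leaf (10, 85, 0))) (.node 1 (.leaf (10, 86, 0)) (.leaf (6, 87, 0))))) (.node 4 (.node 2 (.node 1 (.leaf (11, 88, 0)) (.leaf (0, 7, 636))) (.node 1 (.leaf (0, 72, 601)) (.leaf (0, 67, 601)))) (.node 2 (.node 1 (.leaf (19, 92, 0)) (.leaf (0, 12, 636))) (.node 1 (.leaf (0, 32, 601)) (.leaf (10, 95, 0)))))))

def cls1_3 : BT (ℕ × ℕ × ℕ) :=
  (.node 16 (.node 8 (.node 4 (.node 2 (.node 1 (.leaf (0, 58, 351)) (.leaf (0, 57, 351))) (.node 1 (.leaf (0, 92, 384)) (.leaf (0, 17, 601)))) (.node 2 (.node 1 (.leaf (0, 47, 384)) (.leaf (10, 101, 0))) (.node 1 (.leaf (0, 19, 351)) (.leaf (7, 103, 0))))) (.node 4 (.node 2 (.node 1 (.leaf (7, 104, 0)) (.leaf (6, 105, 0))) (.node 1 (.leaf (10, 106, 0)) (.leaf (0, 53, 384)))) (.node 2 (.node 1 (.leaf (19, 108, 0)) (.leaf (6, 109, 0))) (.node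 1 (.leaf (19, 110, 0)) (.leaf (19, 111, 0)))))) (.node 8 (.node 4 (.node 2 (.node 1 (.leaf (19, 112, 0)) (.leaf (15, 113, 0))) (.node 1 (.leaf (0, 85, 636)) (.leaf (11, 115, 0)))) (.node 2 (.node 1 (.leaf (0, 51, 351)) (.leaf (0, 106, 384))) (.node 1 (.leaf (0, 34, 636)) (.leaf (0, 6, 384))))) (.node 4 (.node 2 (.node 1 (.leaf (0, 106, 636)) (.leaf (0, 2, 384))) (.node 1 (.leaf (19, 122, 0)) (.leaf (0, 1, 636)))) (.node 2 (.node 1 (.leaf (0, 122, 351)) (.leaf (0, 31, 601))) (.node 1 (.leaf (0, 65, 351)) (.leaf (6, 127, 0)))))))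

def cls1_4 : BT (ℕ × ℕ × ℕ) :=
  (.node 16 (.node 8 (.node 4 (.node 2 (.node 1 (.leaf (0, 44, 636)) (.leaf (0, 33, 636))) (.node 1 (.leaf (7, 130, 0)) (.leaf (0, 12, 351)))) (.node 2 (.node 1 (.leaf (0, 58, 601)) (.leaf (10, 133, 0))) (.node 1 (.leaf (0, 28, 601)) (.leaf (0, 40, 384))))) (.node 4 (.node 2 (.node 1 (.leaf (0, 101, 601)) (.leaf (0, 54, 601))) (.node 1 (.leaf (0, 72, 384)) (.leaf (0, 14, 351)))) (.node 2 (.node 1 (.leaf (6, 140, 0)) (.leaf (0, 69, 601))) (.node 1 (.leaf (0, 37, 384)) (.leaf (0, 130, 351)))))) (.node 8 (.node 4 (.node 2 (.node 1 (.leaf (0, 70, 351)) (.leaf (0, 0, 601))) (.node 1 (.leaf (15, 146, 0)) (.leaf (11, 147, 0)))) (.node 2 (.node 1 (.leaf (0, 66, 636)) (.leaf (19, 149, 0))) (.node 1 (.leaf (15, 150, 0)) (.leaf (0, 62, 351))))) (.node 4 (.node 2 (.node 1 (.leaf (0, 36, 601)) (.leaf (0, 67, 384))) (.node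 1 (.leaf (0, 60, 636)) (.leaf (0, 60, 351)))) (.node 2 (.node 1 (.leaf (11, 156, 0)) (.leaf (0, 33, 384))) (.node 1 (.leaf (0, 82, 636)) (.leaf (10, 159, 0)))))))

def cls1_5 : BT (ℕ × ℕ × ℕ) :=
  (.node 16 (.node 8 (.node 4 (.node 2 (.node 1 (.leaf (0, 64, 636)) (.leaf (0, 133, 601))) (.node 1 (.leaf (6, 162, 0)) (.leaf (0, 8, 636)))) (.node 2 (.node 1 (.leaf (10, 164, 0)) (.leaf (15, 165, 0))) (.node 1 (.leaf (0, 101, 384)) (.leaf (0, 19, 384))))) (.node 4 (.node 2 (.node 1 (.leaf (0, 53, 636)) (.leaf (0, 115, 384))) (.node 1 (.leaf (0, 21, 636)) (.leaf (6, 171, 0)))) (.node 2 (.node 1 (.leaf (0, 149, 351)) (.leaf (0, 130, 636))) (.node 1 (.leaf (7, 174, 0)) (.leaf (0, 39, 636)))))) (.node 8 (.node 4 (.node 2 (.node 1 (.leaf (0, 24, 636)) (.leaf (6, 177, 0))) (.node 1 (.leaf (0, 140, 601)) (.leaf (0, 42, 601)))) (.node 2 (.node 1 (.leaf (0,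 23, 601)) (.leaf (0, 41, 384))) (.node 1 (.leaf (0, 49, 601)) (.leaf (0, 15, 384))))) (.node 4 (.node 2 (.node 1 (.leaf (0, 83, 636)) (.leaf (0, 7, 384))) (.node 1 (.leaf (0, 47, 351)) (.leaf (0, 108, 636)))) (.node 2 (.node 1 (.leaf (11, 188, 0)) (.leaf (10, 189, 0))) (.node 1 (.leaf (0, 34, 351)) (.leaf (0, 92, 351)))))))

def cls1_6 : BT (ℕ × ℕ × ℕ) :=
  (.node 16 (.node 8 (.node 4 (.node 2 (.node 1 (.leaf (0, 9, 351)) (.leaf (0, 133, 351))) (.node 1 (.leaf (0, 72, 351)) (.leaf (0, 164, 636)))) (.node 2 (.node 1 (.leaf (0, 86, 384)) (.leaf (0, 189, 601))) (.node 1 (.leaf (0, 50, 636)) (.leaf (0, 112, 351))))) (.node 4 (.node 2 (.node 1 (.leaf (0, 25, 601)) (.leaf (6, 201, 0))) (.node 1 (.leaf (0, 83, 384)) (.leaf (0, 86, 601)))) (.node 2 (.node 1 (.leaf (0, 25, 636)) (.leaf (0, 109, 384))) (.node 1 (.leaf (0, 165, 601)) (.leaf (0, 31, 636))))))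 (.node 8 (.node 4 (.node 2 (.node 1 (.leaf (0, 47, 601)) (.leaf (0, 70, 636))) (.node 1 (.leaf (0, 19, 601)) (.leaf (0, 29, 601)))) (.node 2 (.node 1 (.leaf (10, 212, 0)) (.leaf (0, 164, 351))) (.node 1 (.leaf (0, 23, 384)) (.leaf (0, 105, 351))))) (.node 4 (.node 2 (.node 1 (.leaf (0, 6, 601)) (.leaf (0, 1, 384))) (.node 1 (.leaf (0, 18, 636)) (.leaf (0, 147, 384)))) (.node 2 (.node 1 (.leaf (0, 39, 351)) (.leaf (0, 109, 351))) (.node 1 (.leaf (0, 212, 636)) (.leaf (10, 223, 0)))))))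

def cls1_7 : BT (ℕ × ℕ × ℕ) :=
  (.node 16 (.node 8 (.node 4 (.node 2 (.node 1 (.leaf (7, 224, 0)) (.leaf (0, 73, 636))) (.node 1 (.leaf (6, 226, 0)) (.leaf (0, 226, 384)))) (.node 2 (.node 1 (.leaf (0, 83, 601)) (.leaf (0, 87, 601))) (.node 1 (.leaf (0, 92, 601)) (.leaf (0, 113, 351))))) (.node 4 (.node 2 (.node 1 (.leaf (0, 33, 351)) (.leaf (11, 233, 0))) (.node 1 (.leaf (0, 57, 636)) (.leaf (10, 235, 0)))) (.node 2 (.node 1 (.leaf (0, 48, 384)) (.leaf (0, 212, 351))) (.node 1 (.leaf (7, 238, 0)) (.leaf (0, 61, 384)))))) (.node 8 (.node 4 (.node 2 (.node 1 (.leaf (6, 240, 0)) (.leaf (0, 14, 601))) (.node 1 (.leaf (10, 242, 0)) (.leaf (0, 5, 351)))) (.node 2 (.node 1 (.leaf (0, 4, 351)) (.leaf (0, 92, 636))) (.node 1 (.leaf (0, 235, 384)) (.leaf (0, 95, 601))))) (.node 4 (.node 2 (.node 1 (.leaf (0, 48, 636)) (.leaf (10, 249, 0))) (.node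 1 (.leaf (0, 240, 601)) (.leaf (0, 115, 636)))) (.node 2 (.node 1 (.leaf (0, 159, 636)) (.leaf (0, 212, 601))) (.node 1 (.leaf (0, 171, 636)) (.leaf (10, 255, 0)))))))

def cls1_8 : BT (ℕ × ℕ × ℕ) :=
  (.node 16 (.node 8 (.node 4 (.node 2 (.node 1 (.leaf (6, 256, 0)) (.leaf (0, 19, 636))) (.node 1 (.leaf (0, 18, 351)) (.leaf (0, 177, 384)))) (.node 2 (.node 1 (.leaf (19, 260, 0)) (.leaf (0, 159, 351))) (.node 1 (.leaf (0, 16, 351)) (.leaf (0, 249, 601))))) (.node 4 (.node 2 (.node 1 (.leaf (10, 264, 0)) (.leaf (19, 265, 0))) (.node 1 (.leaf (0, 2, 601)) (.leaf (0, 59, 351)))) (.node 2 (.node 1 (.leaf (0, 146, 351)) (.leaf (0, 61, 636))) (.node 1 (.leaf (0, 78, 601)) (.leaf (0, 26, 384)))))) (.node 8 (.node 4 (.node 2 (.node 1 (.leaf (0, 177, 351)) (.leaf (0, 85, 351))) (.node 1 (.leaf (0, 16, 384)) (.leaf (0, 71, 636)))) (.node 2 (.node 1 (.leaf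 (0, 6, 636)) (.leaf (0, 105, 601))) (.node 1 (.leaf (0, 11, 601)) (.leaf (0, 18, 601))))) (.node 4 (.node 2 (.node 1 (.leaf (0, 201, 636)) (.leaf (0, 147, 636))) (.node 1 (.leaf (0, 87, 351)) (.leaf (0, 249, 384)))) (.node 2 (.node 1 (.leaf (0, 16, 601)) (.leaf (0, 212, 384))) (.node 1 (.leaf (0, 55, 384)) (.leaf (0, 235, 351)))))))

def cls1_9 : BT (ℕ × ℕ × ℕ) :=
  (.node 16 (.node 8 (.node 4 (.node 2 (.node 1 (.leaf (0, 240, 636)) (.leaf (0, 189, 384))) (.node 1 (.leaf (0, 25, 351)) (.leaf (0, 240, 351)))) (.node 2 (.node 1 (.leaf (0, 51, 636)) (.leaf (0, 20, 636))) (.node 1 (.leaf (0, 82, 601)) (.leaf (0, 7, 351))))) (.node 4 (.node 2 (.node 1 (.leaf (0, 73, 351)) (.leaf (0, 24, 384))) (.node 1 (.leaf (0, 265, 636)) (.leaf (0, 235, 636)))) (.node 2 (.node 1 (.leaf (0, 28, 351)) (.leaf (0, 177, 601))) (.node 1 (.leaf (0, 46, 384)) (.leaf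 (0, 45, 601)))))) (.node 8 (.node 4 (.node 2 (.node 1 (.leaf (0, 174, 636)) (.leaf (0, 87, 636))) (.node 1 (.leaf (0, 255, 351)) (.leaf (0, 34, 601)))) (.node 2 (.node 1 (.leaf (0, 256, 601)) (.leaf (0, 5, 601))) (.node 1 (.leaf (0, 112, 601)) (.leaf (0, 33, 601))))) (.node 4 (.node 2 (.node 1 (.leaf (0, 4, 636)) (.leaf (0, 29, 636))) (.node 1 (.leaf (0, 44, 384)) (.leaf (0, 45, 351)))) (.node 2 (.node 1 (.leaf (0, 59, 601)) (.leaf (15, 317, 0))) (.node 1 (.leaf (0, 171, 601)) (.leaf (0, 242, 384)))))))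

def cls1_10 : BT (ℕ × ℕ × ℕ) :=
  (.node 16 (.node 8 (.node 4 (.node 2 (.node 1 (.leaf (0, 201, 384)) (.leaf (0, 32, 636))) (.node 1 (.leaf (0, 39, 601)) (.leaf (0, 28, 384)))) (.node 2 (.node 1 (.leaf (0, 150, 601)) (.leaf (0, 162, 384))) (.node 1 (.leaf (0, 127, 636)) (.leaf (0, 317, 601))))) (.node 4 (.node 2 (.node 1 (.leaf (0, 85, 601)) (.leaf (0, 35, 351))) (.node 1 (.leaf (0, 255, 601)) (.leaf (0, 140, 636)))) (.node 2 (.node 1 (.leaf (0, 115, 601)) (.leaf (0, 174, 351))) (.node 1 (.leaf (0, 66, 351)) (.leaf (0, 14, 384)))))) (.node 8 (.node 4 (.node 2 (.node 1 (.leaf (0, 256, 351)) (.leaf (0, 133, 384))) (.node 1 (.leaf (7, 338, 0)) (.leaf (0, 1, 601)))) (.node 2 (.node 1 (.leaf (0, 61, 601)) (.leaf (0, 162, 636))) (.node 1 (.leaf (15, 342, 0)) (.leaf (0, 108, 601))))) (.node 4 (.node 2 (.node 1 (.leaf (0, 108, 384)) (.leaf (0, 111,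 636))) (.node 1 (.leaf (0, 105, 384)) (.leaf (0, 249, 351)))) (.node 2 (.node 1 (.leaf (0, 32, 351)) (.leaf (0, 81, 351))) (.node 1 (.leaf (0, 223, 601)) (.leaf (0, 224, 636)))))))

def cls1_11 : BT (ℕ × ℕ × ℕ) :=
  (.node 16 (.node 8 (.node 4 (.node 2 (.node 1 (.leaf (0, 256, 384)) (.leaf (7, 353, 0))) (.node 1 (.leaf (0, 226, 636)) (.leaf (0, 64, 384)))) (.node 2 (.node 1 (.leaf (0, 127, 384)) (.leaf (0, 36, 351))) (.node 1 (.leaf (0, 8, 351)) (.leaf (0, 64, 601))))) (.node 4 (.node 2 (.node 1 (.leaf (0, 11, 636)) (.leaf (0, 122, 384))) (.node 1 (.leaf (19, 362, 0)) (.leaf (0, 4, 384)))) (.node 2 (.node 1 (.leaf (15, 364, 0)) (.leaf (0, 364, 384))) (.node 1 (.leaf (0, 264, 384)) (.leaf (0, 71, 384)))))) (.node 8 (.node 4 (.node 2 (.node 1 (.leaf (0, 104, 636)) (.leaf (0, 66, 384))) (.node 1 (.leaf (0, 223, 636)) (.leaf (0, 162, 351)))) (.node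 2 (.node 1 (.leaf (0, 238, 384)) (.leaf (0, 342, 351))) (.node 1 (.leaf (0, 353, 636)) (.leaf (0, 159, 601))))) (.node 4 (.node 2 (.node 1 (.leaf (0, 150, 351)) (.leaf (0, 149, 384))) (.node 1 (.leaf (0, 51, 384)) (.leaf (7, 379, 0)))) (.node 2 (.node 1 (.leaf (10, 380, 0)) (.leaf (0, 15, 351))) (.node 1 (.leaf (0, 39, 384)) (.leaf (0, 127, 601)))))))

def cls1_12 : BT (ℕ × ℕ × ℕ) :=
  (.node 16 (.node 8 (.node 4 (.node 2 (.node 1 (.leaf (0, 353, 351)) (.leaf (0, 353, 601))) (.node 1 (.leaf (0, 37, 601)) (.leaf (0, 95, 384)))) (.node 2 (.node 1 (.leaf (15, 388, 0)) (.leaf (0, 1, 351))) (.node 1 (.leaf (0, 362, 601)) (.leaf (0, 32, 384))))) (.node 4 (.node 2 (.node 1 (.leaf (0, 41, 351)) (.leaf (0, 24, 601))) (.node 1 (.leaf (0, 338, 384)) (.leaf (0, 81, 601)))) (.node 2 (.node 1 (.leaf (0, 111, 601)) (.leaf (0, 54, 351))) (.node 1 (.leaf (0,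 105, 636)) (.leaf (0, 104, 384)))))) (.node 8 (.node 4 (.node 2 (.node 1 (.leaf (0, 109, 601)) (.leaf (0, 57, 601))) (.node 1 (.leaf (0, 255, 384)) (.leaf (0, 58, 384)))) (.node 2 (.node 1 (.leaf (0, 13, 636)) (.leaf (0, 15, 636))) (.node 1 (.leaf (0, 35, 636)) (.leaf (0, 111, 351))))) (.node 4 (.node 2 (.node 1 (.leaf (0, 264, 351)) (.leaf (0, 265, 601))) (.node 1 (.leaf (0, 71, 601)) (.leaf (0, 338, 636)))) (.node 2 (.node 1 (.leaf (0, 112, 636)) (.leaf (0, 69, 636))) (.node 1 (.leaf (0, 14, 636)) (.leaf (0, 2, 351)))))))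

def cls1_13 : BT (ℕ × ℕ × ℕ) :=
  (.node 16 (.node 8 (.node 4 (.node 2 (.node 1 (.leaf (0, 17, 384)) (.leaf (0, 60, 601))) (.node 1 (.leaf (0, 44, 351)) (.leaf (0, 127, 351)))) (.node 2 (.node 1 (.leaf (0, 338, 601)) (.leaf (0, 95, 351))) (.node 1 (.leaf (0, 27, 351)) (.leaf (0, 59, 636))))) (.node 4 (.node 2 (.node 1 (.leaf (0, 146, 601)) (.leaf (0, 86, 351))) (.node 1 (.leaf (0, 260, 384)) (.leaf (0, 342, 601)))) (.node 2 (.node 1 (.leaf (0, 101, 636)) (.leaf (0, 72, 636))) (.node 1 (.leaf (0, 20, 601)) (.leaf (0, 86, 636)))))) (.node 8 (.node 4 (.node 2 (.node 1 (.leaf (0, 150, 384)) (.leaf (0, 45, 384))) (.node 1 (.leaf (0, 260, 636)) (.leaf (0, 23, 636)))) (.node 2 (.node 1 (.leaf (0, 149, 601)) (.leaf (0, 265, 351))) (.node 1 (.leaf (0, 147, 351)) (.leaf (0, 73, 601))))) (.node 4 (.node 2 (.node 1 (.leaf (0, 238, 351)) (.leaf (0, 103,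 601))) (.node 1 (.leaf (0, 265, 384)) (.leaf (0, 233, 636)))) (.node 2 (.node 1 (.leaf (0, 83, 351)) (.leaf (0, 317, 384))) (.node 1 (.leaf (0, 54, 384)) (.leaf (0, 28, 636)))))))

def cls1_14 : BT (ℕ × ℕ × ℕ) :=
  (.node 16 (.node 8 (.node 4 (.node 2 (.node 1 (.leaf (0, 317, 636)) (.leaf (0, 101, 351))) (.node 1 (.leaf (0, 29, 351)) (.leaf (0, 223, 351)))) (.node 2 (.node 1 (.leaf (0, 27, 384)) (.leaf (0, 81, 384))) (.node 1 (.leaf (0, 50, 601)) (.leaf (0, 78, 636))))) (.node 4 (.node 2 (.node 1 (.leaf (0, 162, 601)) (.leaf (0, 23, 351))) (.node 1 (.leaf (0, 104, 351)) (.leaf (0, 164, 601)))) (.node 2 (.node 1 (.leaf (0, 201, 601)) (.leaf (0, 233, 384))) (.node 1 (.leaf (0, 338, 351)) (.leaf (0, 11, 384)))))) (.node 8 (.node 4 (.node 2 (.node 1 (.leaf (0, 55, 636)) (.leaf (0, 84, 601))) (.node 1 (.leaf (0, 146, 636)) (.leaf (0, 12, 601))))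 (.node 2 (.node 1 (.leaf (0, 362, 384)) (.leaf (0, 342, 384))) (.node 1 (.leaf (0, 71, 351)) (.leaf (0, 106, 351))))) (.node 4 (.node 2 (.node 1 (.leaf (0, 103, 351)) (.leaf (0, 51, 601))) (.node 1 (.leaf (0, 159, 384)) (.leaf (0, 130, 601)))) (.node 2 (.node 1 (.leaf (0, 224, 384)) (.leaf (0, 226, 601))) (.node 1 (.leaf (0, 41, 601)) (.leaf (0, 113, 384)))))))

def cls1_15 : BT (ℕ × ℕ × ℕ) :=
  (.node 16 (.node 8 (.node 4 (.node 2 (.node 1 (.leaf (0, 177, 636)) (.leaf (0, 110, 351))) (.node 1 (.leaf (0, 165, 351)) (.leaf (0, 37, 351)))) (.node 2 (.node 1 (.leaf (0, 36, 384)) (.leaf (0, 78, 384))) (.node 1 (.leaf (0, 171, 351)) (.leaf (0, 50, 351))))) (.node 4 (.node 2 (.node 1 (.leaf (0, 6, 351)) (.leaf (0, 110, 601))) (.node 1 (.leaf (0, 84, 384)) (.leaf (0, 189, 636)))) (.node 2 (.node 1 (.leaf (0, 54, 636)) (.leaf (0, 103, 636))) (.node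 1 (.leaf (0, 49, 384)) (.leaf (0, 362, 636)))))) (.node 8 (.node 4 (.node 2 (.node 1 (.leaf (0, 27, 636)) (.leaf (0, 106, 601))) (.node 1 (.leaf (0, 156, 636)) (.leaf (0, 60, 384)))) (.node 2 (.node 1 (.leaf (0, 84, 351)) (.leaf (0, 188, 601))) (.node 1 (.leaf (0, 264, 636)) (.leaf (0, 171, 384))))) (.node 4 (.node 2 (.node 1 (.leaf (0, 21, 601)) (.leaf (0, 5, 384))) (.node 1 (.leaf (0, 82, 384)) (.leaf (0, 88, 601)))) (.node 2 (.node 1 (.leaf (0, 188, 384)) (.leaf (0, 242, 351))) (.node 1 (.leaf (0, 95, 636)) (.leaf (0, 78, 351)))))))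

def cls1_16 : BT (ℕ × ℕ × ℕ) :=
  (.node 16 (.node 8 (.node 4 (.node 2 (.node 1 (.leaf (0, 238, 636)) (.leaf (0, 81, 636))) (.node 1 (.leaf (0, 146, 384)) (.leaf (0, 364, 601)))) (.node 2 (.node 1 (.leaf (6, 516, 0)) (.leaf (0, 46, 351))) (.node 1 (.leaf (0, 4, 601)) (.leaf (0, 233, 351))))) (.node 4 (.node 2 (.node 1 (.leaf (0, 48, 351)) (.leaf (0, 122, 636))) (.node 1 (.leaf (0, 156, 351)) (.leaf (0, 379, 636)))) (.node 2 (.node 1 (.leaf (0, 380, 384)) (.leaf (0, 156, 601))) (.node 1 (.leaf (0, 8, 384)) (.leaf (0, 353, 384)))))) (.node 8 (.node 4 (.node 2 (.node 1 (.leaf (0, 226, 351)) (.leaf (0, 113, 601))) (.node 1 (.leaf (0, 224, 601)) (.leaf (0, 21, 351)))) (.node 2 (.node 1 (.leaf (0, 34, 384)) (.leaf (15, 533, 0))) (.node 1 (.leaf (0, 88, 351)) (.leaf (0, 165, 384))))) (.node 4 (.node 2 (.node 1 (.leaf (0, 35, 601)) (.leaf (0, 49,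 351))) (.node 1 (.leaf (0, 59, 384)) (.leaf (0, 113, 636)))) (.node 2 (.node 1 (.leaf (0, 174, 601)) (.leaf (0, 25, 384))) (.node 1 (.leaf (0, 70, 384)) (.leaf (0, 188, 636)))))))

def cls1_17 : BT (ℕ × ℕ × ℕ) :=
  (.node 16 (.node 8 (.node 4 (.node 2 (.node 1 (.leaf (0, 380, 601)) (.leaf (0, 53, 351))) (.node 1 (.leaf (0, 233, 601)) (.leaf (0, 37, 636)))) (.node 2 (.node 1 (.leaf (0, 36, 636)) (.leaf (0, 147, 601))) (.node 1 (.leaf (0, 53, 601)) (.leaf (0, 29, 384))))) (.node 4 (.node 2 (.node 1 (.leaf (0, 40, 636)) (.leaf (0, 224, 351))) (.node 1 (.leaf (0, 317, 351)) (.leaf (0, 188, 351)))) (.node 2 (.node 1 (.leaf (0, 40, 351)) (.leaf (0, 40, 601))) (.node 1 (.leaf (0, 165, 636)) (.leaf (0, 342, 636)))))) (.node 8 (.node 4 (.node 2 (.node 1 (.leaf (0, 256, 636)) (.leaf (0, 242, 601))) (.node 1 (.leaf (0, 103, 384)) (.leaf (0, 26, 601))))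 (.node 2 (.node 1 (.leaf (0, 133, 636)) (.leaf (0, 130, 384))) (.node 1 (.leaf (0, 57, 384)) (.leaf (0, 62, 636))))) (.node 4 (.node 2 (.node 1 (.leaf (0, 12, 384)) (.leaf (0, 2, 636))) (.node 1 (.leaf (0, 88, 636)) (.leaf (0, 65, 384)))) (.node 2 (.node 1 (.leaf (0, 362, 351)) (.leaf (0, 174, 384))) (.node 1 (.leaf (0, 16, 636)) (.leaf (0, 42, 351)))))))

def cls1_18 : BT (ℕ × ℕ × ℕ) :=
  (.node 16 (.node 8 (.node 4 (.node 2 (.node 1 (.leaf (0, 11, 351)) (.leaf (0, 189, 351))) (.node 1 (.leaf (0, 249, 636)) (.leaf (0, 44, 601)))) (.node 2 (.node 1 (.leaf (0, 69, 351)) (.leaf (0, 104, 601))) (.node 1 (.leaf (0, 235, 601)) (.leaf (0, 84, 636))))) (.node 4 (.node 2 (.node 1 (.leaf (0, 69, 384)) (.leaf (0, 260, 601))) (.node 1 (.leaf (0, 62, 384)) (.leaf (0, 17, 636)))) (.node 2 (.node 1 (.leaf (0, 242, 636)) (.leaf (0, 122, 601))) (.node 1 (.leaf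 (0, 13, 384)) (.leaf (0, 41, 636)))))) (.node 8 (.node 4 (.node 2 (.node 1 (.leaf (0, 364, 636)) (.leaf (0, 49, 636))) (.node 1 (.leaf (0, 201, 351)) (.leaf (15, 595, 0)))) (.node 2 (.node 1 (.leaf (0, 379, 384)) (.leaf (0, 13, 351))) (.node 1 (.leaf (0, 61, 351)) (.leaf (0, 31, 351))))) (.node 4 (.node 2 (.node 1 (.leaf (0, 109, 636)) (.leaf (0, 533, 636))) (.node 1 (.leaf (0, 533, 384)) (.leaf (0, 379, 601)))) (.node 2 (.node 1 (.leaf (0, 149, 636)) (.leaf (0, 87, 384))) (.node 1 (.leaf (0, 8, 601)) (.leaf (0, 110, 636)))))))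

def cls1_19 : BT (ℕ × ℕ × ℕ) :=
  (.node 16 (.node 8 (.node 4 (.node 2 (.node 1 (.leaf (0, 21, 384)) (.leaf (0, 255, 636))) (.node 1 (.leaf (0, 85, 384)) (.leaf (0, 533, 601)))) (.node 2 (.node 1 (.leaf (0, 46, 601)) (.leaf (0, 88, 384))) (.node 1 (.leaf (15, 614, 0)) (.leaf (0, 112, 384))))) (.node 4 (.node 2 (.node 1 (.leaf (0, 380, 636)) (.leaf (0, 223, 384))) (.node 1 (.leaf (0, 35, 384)) (.leaf (0, 42, 384)))) (.node 2 (.node 1 (.leaf (0, 240, 384)) (.leaf (0, 55, 601))) (.node 1 (.leaf (0, 7, 601)) (.leaf (0, 31, 384)))))) (.node 8 (.node 4 (.node 2 (.node 1 (.leaf (0, 115, 351)) (.leaf (0, 5, 636))) (.node 1 (.leaf (0, 150, 636)) (.leaf (0, 260, 351)))) (.node 2 (.node 1 (.leaf (0, 26, 351)) (.leaf (0, 82, 351))) (.node 1 (.leaf (0, 15, 601)) (.leaf (0, 156, 384))))) (.node 4 (.node 2 (.node 1 (.leaf (0, 264, 601)) (.leaf (0, 20, 384)))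 (.node 1 (.leaf (0, 364, 351)) (.leaf (0, 65, 636)))) (.node 2 (.node 1 (.leaf (0, 379, 351)) (.leaf (0, 70, 601))) (.node 1 (.leaf (0, 533, 351)) (.leaf (0, 47, 636)))))))

def cls1_20 : BT (ℕ × ℕ × ℕ) :=
  (.node 10 (.node 5 (.node 2 (.node 1 (.leaf (0, 110, 384)) (.leaf (0, 45, 636))) (.node 1 (.leaf (0, 238, 601)) (.node 1 (.leaf (0, 24, 351)) (.leaf (0, 46, 636))))) (.node 2 (.node 1 (.leaf (0, 50, 384)) (.leaf (0, 380, 351))) (.node 1 (.leaf (0, 108, 351)) (.node 1 (.leaf (0, 111, 384)) (.leaf (0, 64, 351)))))) (.node 5 (.node 2 (.node 1 (.leaf (0, 17, 351)) (.leaf (0, 67, 351))) (.node 1 (.leaf (0, 140, 384)) (.node 1 (.leaf (0, 20, 351)) (.leaf (0, 67, 636))))) (.node 2 (.node 1 (.leaf (0, 62, 601)) (.leaf (0, 26, 636))) (.node 1 (.leaf (0, 18, 384)) (.node 1 (.leaf (0, 140, 351)) (.leaf (0, 164, 384)))))))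

/-- Table `cls1`. -/
def cls1 : BT (ℕ × ℕ × ℕ) :=
  (.node 320 (.node 160 (.node 64 (.node 32 cls1_0 cls1_1) (.node 32 cls1_2 (.node 32 cls1_3 cls1_4))) (.node 64 (.node 32 cls1_5 cls1_6) (.node 32 cls1_7 (.node 32 cls1_8 cls1_9)))) (.node 160 (.node 64 (.node 32 cls1_10 cls1_11) (.node 32 cls1_12 (.node 32 cls1_13 cls1_14))) (.node 96 (.node 32 cls1_15 (.node 32 cls1_16 cls1_17)) (.node 32 cls1_18 (.node 32 cls1_19 cls1_20)))))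

def cls2_0 : BT (ℕ × ℕ × ℕ) :=
  (.node 16 (.node 8 (.node 4 (.node 2 (.node 1 (.leaf (10, 0, 0)) (.leaf (10, 1, 0))) (.node 1 (.leaf (10, 2, 0)) (.leaf (7, 3, 0)))) (.node 2 (.node 1 (.leaf (11, 4, 0)) (.leaf (15, 5, 0))) (.node 1 (.leaf (7, 6, 0)) (.leaf (19, 7, 0))))) (.node 4 (.node 2 (.node 1 (.leaf (10, 8, 0)) (.leaf (6, 9, 0))) (.node 1 (.leaf (15, 10, 0)) (.leaf (10, 11, 0)))) (.node 2 (.node 1 (.leaf (7, 12, 0)) (.leaf (6, 13, 0))) (.node 1 (.leaf (6, 14, 0)) (.leaf (0, 10, 445)))))) (.node 8 (.node 4 (.node 2 (.node 1 (.leaf (19, 16, 0)) (.leaf (6, 17, 0))) (.node 1 (.leaf (19, 18, 0)) (.leaf (11, 19, 0)))) (.node 2 (.node 1 (.leaf (19, 20, 0)) (.leaf (7, 21, 0))) (.node 1 (.leaf (19, 22, 0)) (.leaf (10, 23, 0))))) (.node 4 (.node 2 (.node 1 (.leaf (10, 24, 0)) (.leaf (15, 25, 0))) (.node 1 (.leaf (19, 26, 0)) (.leaf (7, 27, 0))))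 (.node 2 (.node 1 (.leaf (6, 28, 0)) (.leaf (0, 22, 319))) (.node 1 (.leaf (0, 17, 381)) (.leaf (10, 31, 0)))))))

def cls2_1 : BT (ℕ × ℕ × ℕ) :=
  (.node 16 (.node 8 (.node 4 (.node 2 (.node 1 (.leaf (0, 18, 445)) (.leaf (10, 33, 0))) (.node 1 (.leaf (0, 12, 381)) (.leaf (10, 35, 0)))) (.node 2 (.node 1 (.leaf (0, 33, 71)) (.leaf (0, 20, 525))) (.node 1 (.leaf (6, 38, 0)) (.leaf (0, 31, 381))))) (.node 4 (.node 2 (.node 1 (.leaf (0, 28, 525)) (.leaf (6, 41, 0))) (.node 1 (.leaf (0, 5, 71)) (.leaf (7, 43, 0)))) (.node 2 (.node 1 (.leaf (11, 44, 0)) (.leaf (0, 27, 71))) (.node 1 (.leaf (10, 46, 0)) (.leaf (19, 47, 0)))))) (.node 8 (.node 4 (.node 2 (.node 1 (.leaf (19, 48, 0)) (.leaf (0, 11, 319))) (.node 1 (.leaf (0, 6, 71)) (.leaf (0, 46, 445)))) (.node 2 (.node 1 (.leaf (10, 52, 0)) (.leaf (0, 4, 445))) (.node 1 (.leaf (15, 54, 0)) (.leaf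 (6, 55, 0))))) (.node 4 (.node 2 (.node 1 (.leaf (19, 56, 0)) (.leaf (0, 8, 71))) (.node 1 (.leaf (15, 58, 0)) (.leaf (15, 59, 0)))) (.node 2 (.node 1 (.leaf (7, 60, 0)) (.leaf (15, 61, 0))) (.node 1 (.leaf (11, 62, 0)) (.leaf (0, 38, 381)))))))

def cls2_2 : BT (ℕ × ℕ × ℕ) :=
  (.node 16 (.node 8 (.node 4 (.node 2 (.node 1 (.leaf (0, 19, 445)) (.leaf (6, 65, 0))) (.node 1 (.leaf (10, 66, 0)) (.leaf (6, 67, 0)))) (.node 2 (.node 1 (.leaf (7, 68, 0)) (.leaf (6, 69, 0))) (.node 1 (.leaf (6, 70, 0)) (.leaf (0, 28, 381))))) (.node 4 (.node 2 (.node 1 (.leaf (11, 72, 0)) (.leaf (11, 73, 0))) (.node 1 (.leaf (10, 74, 0)) (.leaf (6, 75, 0)))) (.node 2 (.node 1 (.leaf (0, 61, 525)) (.leaf (19, 77, 0))) (.node 1 (.leaf (0, 70, 319)) (.leaf (11, 79, 0)))))) (.node 8 (.node 4 (.node 2 (.node 1 (.leaf (6, 80, 0)) (.leaf (10, 81, 0))) (.node 1 (.leaf (0,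 66, 525)) (.leaf (19, 83, 0)))) (.node 2 (.node 1 (.leaf (0, 2, 381)) (.leaf (0, 70, 381))) (.node 1 (.leaf (10, 86, 0)) (.leaf (0, 43, 381))))) (.node 4 (.node 2 (.node 1 (.leaf (15, 88, 0)) (.leaf (0, 55, 525))) (.node 1 (.leaf (6, 90, 0)) (.leaf (7, 91, 0)))) (.node 2 (.node 1 (.leaf (0, 23, 319)) (.leaf (7, 93, 0))) (.node 1 (.leaf (10, 94, 0)) (.leaf (0, 55, 445)))))))

def cls2_3 : BT (ℕ × ℕ × ℕ) :=
  (.node 16 (.node 8 (.node 4 (.node 2 (.node 1 (.leaf (0, 31, 445)) (.leaf (0, 2, 525))) (.node 1 (.leaf (10, 98, 0)) (.leaf (0, 19, 71)))) (.node 2 (.node 1 (.leaf (6, 100, 0)) (.leaf (6, 101, 0))) (.node 1 (.leaf (0, 7, 381)) (.leaf (0, 31, 525))))) (.node 4 (.node 2 (.node 1 (.leaf (6, 104, 0)) (.leaf (11, 105, 0))) (.node 1 (.leaf (15, 106, 0)) (.leaf (10, 107, 0)))) (.node 2 (.node 1 (.leaf (6, 108, 0)) (.leaf (10, 109, 0))) (.node 1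 (.leaf (0, 104, 319)) (.leaf (15, 111, 0)))))) (.node 8 (.node 4 (.node 2 (.node 1 (.leaf (0, 1, 319)) (.leaf (0, 105, 71))) (.node 1 (.leaf (0, 58, 71)) (.leaf (0, 98, 445)))) (.node 2 (.node 1 (.leaf (10, 116, 0)) (.leaf (0, 25, 319))) (.node 1 (.leaf (0, 80, 319)) (.leaf (0, 28, 319))))) (.node 4 (.node 2 (.node 1 (.leaf (0, 21, 71)) (.leaf (7, 121, 0))) (.node 1 (.leaf (6, 122, 0)) (.leaf (0, 60, 525)))) (.node 2 (.node 1 (.leaf (0, 16, 381)) (.leaf (6, 125, 0))) (.node 1 (.leaf (0, 26, 71)) (.leaf (0, 5, 319)))))))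

def cls2_4 : BT (ℕ × ℕ × ℕ) :=
  (.node 16 (.node 8 (.node 4 (.node 2 (.node 1 (.leaf (0, 24, 71)) (.leaf (0, 3, 445))) (.node 1 (.leaf (0, 69, 445)) (.leaf (10, 131, 0)))) (.node 2 (.node 1 (.leaf (11, 132, 0)) (.leaf (0, 69, 525))) (.node 1 (.leaf (10, 134, 0)) (.leaf (6, 135, 0))))) (.node 4 (.node 2 (.node 1 (.leaf (0, 66, 381)) (.leaf (0, 80, 71))) (.node 1 (.leaf (0, 41, 319)) (.leaf (0, 54, 525)))) (.node 2 (.node 1 (.leaf (10, 140, 0)) (.leaf (0, 106, 445))) (.node 1 (.leaf (7, 142, 0)) (.leaf (0, 140, 445)))))) (.node 8 (.node 4 (.node 2 (.node 1 (.leaf (0, 104, 525)) (.leaf (15, 145, 0))) (.node 1 (.leaf (0, 98, 319)) (.leaf (0, 107, 445)))) (.node 2 (.node 1 (.leaf (15, 148, 0)) (.leaf (11, 149, 0))) (.node 1 (.leaf (0, 116, 319)) (.leaf (0, 48, 525))))) (.node 4 (.node 2 (.node 1 (.leaf (6, 152, 0)) (.leaf (0, 27, 525))) (.node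 1 (.leaf (0, 20, 445)) (.leaf (10, 155, 0)))) (.node 2 (.node 1 (.leaf (0, 1, 381)) (.leaf (0, 100, 319))) (.node 1 (.leaf (6, 158, 0)) (.leaf (15, 159, 0)))))))

def cls2_5 : BT (ℕ × ℕ × ℕ) :=
  (.node 16 (.node 8 (.node 4 (.node 2 (.node 1 (.leaf (0, 17, 319)) (.leaf (0, 22, 381))) (.node 1 (.leaf (0, 108, 381)) (.leaf (0, 148, 525)))) (.node 2 (.node 1 (.leaf (0, 158, 71)) (.leaf (6, 165, 0))) (.node 1 (.leaf (7, 166, 0)) (.leaf (15, 167, 0))))) (.node 4 (.node 2 (.node 1 (.leaf (0, 3, 71)) (.leaf (0, 135, 445))) (.node 1 (.leaf (0, 159, 445)) (.leaf (0, 62, 525)))) (.node 2 (.node 1 (.leaf (10, 172, 0)) (.leaf (0, 38, 71))) (.node 1 (.leaf (19, 174, 0)) (.leaf (0, 75, 525)))))) (.node 8 (.node 4 (.node 2 (.node 1 (.leaf (0, 33, 319)) (.leaf (0, 47, 445))) (.node 1 (.leaf (0, 148, 71)) (.leaf (0, 46, 71)))) (.node 2 (.node 1 (.leaf (15,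 180, 0)) (.leaf (0, 108, 71))) (.node 1 (.leaf (0, 60, 71)) (.leaf (0, 172, 71))))) (.node 4 (.node 2 (.node 1 (.leaf (0, 81, 525)) (.leaf (0, 111, 525))) (.node 1 (.leaf (0, 79, 381)) (.leaf (0, 1, 525)))) (.node 2 (.node 1 (.leaf (10, 188, 0)) (.leaf (0, 165, 381))) (.node 1 (.leaf (0, 12, 71)) (.leaf (0, 145, 525)))))))

def cls2_6 : BT (ℕ × ℕ × ℕ) :=
  (.node 16 (.node 8 (.node 4 (.node 2 (.node 1 (.leaf (0, 77, 319)) (.leaf (0, 107, 319))) (.node 1 (.leaf (0, 27, 381)) (.leaf (7, 195, 0)))) (.node 2 (.node 1 (.leaf (0, 134, 71)) (.leaf (0, 90, 381))) (.node 1 (.leaf (6, 198, 0)) (.leaf (0, 21, 319))))) (.node 4 (.node 2 (.node 1 (.leaf (0, 74, 381)) (.leaf (0, 159, 319))) (.node 1 (.leaf (0, 155, 381)) (.leaf (0, 98, 381)))) (.node 2 (.node 1 (.leaf (0, 121, 381)) (.leaf (0, 20, 381))) (.node 1 (.leaf (0, 140, 71)) (.leaf (0, 41, 445))))))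 (.node 8 (.node 4 (.node 2 (.node 1 (.leaf (0, 60, 445)) (.leaf (10, 209, 0))) (.node 1 (.leaf (0, 9, 381)) (.leaf (0, 24, 381)))) (.node 2 (.node 1 (.leaf (0, 107, 71)) (.leaf (0, 5, 525))) (.node 1 (.leaf (0, 48, 71)) (.leaf (0, 47, 319))))) (.node 4 (.node 2 (.node 1 (.leaf (0, 77, 445)) (.leaf (0, 142, 445))) (.node 1 (.leaf (0, 149, 525)) (.leaf (0, 69, 319)))) (.node 2 (.node 1 (.leaf (10, 220, 0)) (.leaf (0, 2, 71))) (.node 1 (.leaf (0, 79, 319)) (.leaf (0, 25, 445)))))))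

def cls2_7 : BT (ℕ × ℕ × ℕ) :=
  (.node 16 (.node 8 (.node 4 (.node 2 (.node 1 (.leaf (0, 125, 525)) (.leaf (0, 14, 381))) (.node 1 (.leaf (0, 140, 525)) (.leaf (0, 149, 319)))) (.node 2 (.node 1 (.leaf (0, 52, 71)) (.leaf (0, 142, 525))) (.node 1 (.leaf (0, 66, 445)) (.leaf (0, 93, 445))))) (.node 4 (.node 2 (.node 1 (.leaf (0, 35, 525)) (.leaf (0, 14, 319))) (.node 1 (.leaf (0, 52, 525)) (.leaf (0, 38, 319)))) (.node 2 (.node 1 (.leaf (0, 62, 71)) (.leaf (0, 23, 381))) (.node 1 (.leaf (0, 4, 381)) (.leaf (0, 12, 525)))))) (.node 8 (.node 4 (.node 2 (.node 1 (.leaf (0, 166, 525)) (.leaf (0, 125, 381))) (.node 1 (.leaf (0, 121, 319)) (.leaf (0, 148, 319)))) (.node 2 (.node 1 (.leaf (0, 91, 381)) (.leaf (0, 21, 445))) (.node 1 (.leaf (0, 43, 71)) (.leaf (0, 46, 381))))) (.node 4 (.node 2 (.node 1 (.leaf (0, 111, 319)) (.leaf (0, 122, 381)))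 (.node 1 (.leaf (19, 250, 0)) (.leaf (19, 251, 0)))) (.node 2 (.node 1 (.leaf (0, 8, 319)) (.leaf (0, 132, 319))) (.node 1 (.leaf (0, 65, 381)) (.leaf (0, 0, 381)))))))

def cls2_8 : BT (ℕ × ℕ × ℕ) :=
  (.node 16 (.node 8 (.node 4 (.node 2 (.node 1 (.leaf (0, 100, 71)) (.leaf (0, 46, 525))) (.node 1 (.leaf (0, 67, 319)) (.leaf (15, 259, 0)))) (.node 2 (.node 1 (.leaf (0, 31, 71)) (.leaf (0, 174, 71))) (.node 1 (.leaf (0, 121, 525)) (.leaf (19, 263, 0))))) (.node 4 (.node 2 (.node 1 (.leaf (0, 131, 381)) (.leaf (0, 165, 445))) (.node 1 (.leaf (0, 72, 525)) (.leaf (0, 81, 445)))) (.node 2 (.node 1 (.leaf (0, 104, 71)) (.leaf (0, 68, 381))) (.node 1 (.leaf (7, 270, 0)) (.leaf (0, 0, 319)))))) (.node 8 (.node 4 (.node 2 (.node 1 (.leaf (0, 35, 71)) (.leaf (0, 270, 525))) (.node 1 (.leaf (0, 43, 525)) (.leaf (0, 251, 525)))) (.node 2 (.node 1 (.leaf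 (0, 75, 319)) (.leaf (0, 263, 525))) (.node 1 (.leaf (0, 19, 525)) (.leaf (0, 93, 381))))) (.node 4 (.node 2 (.node 1 (.leaf (0, 155, 525)) (.leaf (0, 54, 319))) (.node 1 (.leaf (0, 93, 71)) (.leaf (0, 33, 381)))) (.node 2 (.node 1 (.leaf (6, 284, 0)) (.leaf (0, 122, 525))) (.node 1 (.leaf (0, 180, 71)) (.leaf (0, 5, 445)))))))

def cls2_9 : BT (ℕ × ℕ × ℕ) :=
  (.node 16 (.node 8 (.node 4 (.node 2 (.node 1 (.leaf (0, 91, 319)) (.leaf (0, 284, 381))) (.node 1 (.leaf (0, 250, 525)) (.leaf (0, 72, 71)))) (.node 2 (.node 1 (.leaf (0, 56, 525)) (.leaf (0, 166, 319))) (.node 1 (.leaf (0, 259, 381)) (.leaf (0, 134, 525))))) (.node 4 (.node 2 (.node 1 (.leaf (0, 66, 71)) (.leaf (0, 24, 445))) (.node 1 (.leaf (0, 77, 71)) (.leaf (0, 100, 525)))) (.node 2 (.node 1 (.leaf (0, 121, 71)) (.leaf (0, 69, 71))) (.node 1 (.leaf (0, 11, 445)) (.leaf (0, 33,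 525)))))) (.node 8 (.node 4 (.node 2 (.node 1 (.leaf (0, 41, 525)) (.leaf (0, 105, 525))) (.node 1 (.leaf (0, 13, 71)) (.leaf (0, 73, 319)))) (.node 2 (.node 1 (.leaf (0, 22, 445)) (.leaf (0, 6, 381))) (.node 1 (.leaf (0, 259, 319)) (.leaf (0, 155, 71))))) (.node 4 (.node 2 (.node 1 (.leaf (0, 47, 525)) (.leaf (0, 0, 71))) (.node 1 (.leaf (0, 174, 381)) (.leaf (0, 148, 381)))) (.node 2 (.node 1 (.leaf (0, 108, 319)) (.leaf (0, 59, 71))) (.node 1 (.leaf (0, 18, 525)) (.leaf (0, 140, 381)))))))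

def cls2_10 : BT (ℕ × ℕ × ℕ) :=
  (.node 16 (.node 8 (.node 4 (.node 2 (.node 1 (.leaf (0, 75, 381)) (.leaf (0, 152, 71))) (.node 1 (.leaf (0, 88, 445)) (.leaf (0, 167, 381)))) (.node 2 (.node 1 (.leaf (0, 17, 445)) (.leaf (0, 88, 525))) (.node 1 (.leaf (0, 12, 445)) (.leaf (0, 56, 319))))) (.node 4 (.node 2 (.node 1 (.leaf (0, 284, 525)) (.leaf (0, 68, 71))) (.node 1 (.leaf (0, 58, 319)) (.leaf (0, 83, 445)))) (.node 2 (.node 1 (.leaf (0, 22, 71)) (.leaf (0, 104, 381))) (.node 1 (.leaf (0, 125, 71)) (.leaf (0, 60, 319)))))) (.node 8 (.node 4 (.node 2 (.node 1 (.leaf (0, 75, 71)) (.leaf (0, 116, 71))) (.node 1 (.leaf (0, 259, 445)) (.leaf (0, 38, 525)))) (.node 2 (.node 1 (.leaf (0, 159, 381)) (.leaf (0, 79, 71))) (.node 1 (.leaf (0, 54, 445)) (.leaf (0, 11, 71))))) (.node 4 (.node 2 (.node 1 (.leaf (0, 132, 525)) (.leaf (0, 284, 445))) (.node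 1 (.leaf (0, 56, 381)) (.leaf (0, 109, 525)))) (.node 2 (.node 1 (.leaf (0, 13, 319)) (.leaf (0, 20, 71))) (.node 1 (.leaf (0, 220, 445)) (.leaf (0, 167, 525)))))))

def cls2_11 : BT (ℕ × ℕ × ℕ) :=
  (.node 16 (.node 8 (.node 4 (.node 2 (.node 1 (.leaf (0, 158, 445)) (.leaf (0, 105, 381))) (.node 1 (.leaf (10, 354, 0)) (.leaf (0, 284, 71)))) (.node 2 (.node 1 (.leaf (0, 68, 445)) (.leaf (0, 198, 381))) (.node 1 (.leaf (0, 86, 445)) (.leaf (0, 35, 445))))) (.node 4 (.node 2 (.node 1 (.leaf (0, 16, 319)) (.leaf (0, 14, 445))) (.node 1 (.leaf (0, 93, 319)) (.leaf (0, 80, 445)))) (.node 2 (.node 1 (.leaf (0, 54, 71)) (.leaf (0, 142, 319))) (.node 1 (.leaf (0, 263, 445)) (.leaf (0, 134, 445)))))) (.node 8 (.node 4 (.node 2 (.node 1 (.leaf (0, 198, 525)) (.leaf (0, 263, 71))) (.node 1 (.leaf (0, 18, 71)) (.leaf (0, 172, 445)))) (.node 2 (.node 1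 (.leaf (0, 21, 525)) (.leaf (0, 10, 381))) (.node 1 (.leaf (0, 17, 71)) (.leaf (6, 375, 0))))) (.node 4 (.node 2 (.node 1 (.leaf (0, 132, 445)) (.leaf (0, 107, 525))) (.node 1 (.leaf (0, 263, 319)) (.leaf (0, 152, 525)))) (.node 2 (.node 1 (.leaf (0, 159, 71)) (.leaf (0, 198, 445))) (.node 1 (.leaf (6, 382, 0)) (.leaf (0, 174, 445)))))))

def cls2_12 : BT (ℕ × ℕ × ℕ) :=
  (.node 16 (.node 8 (.node 4 (.node 2 (.node 1 (.leaf (0, 166, 71)) (.leaf (0, 77, 525))) (.node 1 (.leaf (0, 58, 445)) (.leaf (0, 209, 525)))) (.node 2 (.node 1 (.leaf (0, 142, 71)) (.leaf (0, 90, 525))) (.node 1 (.leaf (0, 8, 445)) (.leaf (0, 7, 525))))) (.node 4 (.node 2 (.node 1 (.leaf (0, 20, 319)) (.leaf (0, 1, 71))) (.node 1 (.leaf (0, 14, 71)) (.leaf (0, 106, 319)))) (.node 2 (.node 1 (.leaf (0, 72, 319)) (.leaf (0, 47, 381))) (.node 1 (.leaf (0, 122, 71)) (.leaf (0,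 195, 71)))))) (.node 8 (.node 4 (.node 2 (.node 1 (.leaf (0, 91, 525)) (.leaf (0, 68, 319))) (.node 1 (.leaf (0, 24, 319)) (.leaf (0, 375, 71)))) (.node 2 (.node 1 (.leaf (15, 404, 0)) (.leaf (0, 61, 381))) (.node 1 (.leaf (0, 22, 525)) (.leaf (0, 62, 445))))) (.node 4 (.node 2 (.node 1 (.leaf (0, 251, 381)) (.leaf (0, 88, 381))) (.node 1 (.leaf (0, 209, 445)) (.leaf (0, 270, 445)))) (.node 2 (.node 1 (.leaf (0, 152, 445)) (.leaf (0, 27, 445))) (.node 1 (.leaf (0, 24, 525)) (.leaf (0, 180, 445)))))))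

def cls2_13 : BT (ℕ × ℕ × ℕ) :=
  (.node 16 (.node 8 (.node 4 (.node 2 (.node 1 (.leaf (0, 16, 71)) (.leaf (0, 6, 445))) (.node 1 (.leaf (0, 55, 71)) (.leaf (0, 125, 319)))) (.node 2 (.node 1 (.leaf (0, 81, 71)) (.leaf (0, 250, 71))) (.node 1 (.leaf (0, 58, 381)) (.leaf (0, 121, 445))))) (.node 4 (.node 2 (.node 1 (.leaf (0, 8, 381)) (.leaf (0, 26, 445))) (.node 1 (.leaf (0, 7, 71)) (.leaf (0, 11, 381)))) (.node 2 (.node 1 (.leaf (0, 35, 319)) (.leaf (0, 106, 525))) (.node 1 (.leaf (0, 83, 71)) (.leaf (0, 375, 319)))))) (.node 8 (.node 4 (.node 2 (.node 1 (.leaf (6, 432, 0)) (.leaf (0, 80, 381))) (.node 1 (.leaf (0, 432, 319)) (.leaf (0, 7, 445)))) (.node 2 (.node 1 (.leaf (0, 14, 525)) (.leaf (0, 188, 319))) (.node 1 (.leaf (0, 28, 445)) (.leaf (0, 180, 525))))) (.node 4 (.node 2 (.node 1 (.leaf (0, 100, 445)) (.leaf (0, 180, 381))) (.node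 1 (.leaf (0, 67, 445)) (.leaf (0, 4, 319)))) (.node 2 (.node 1 (.leaf (0, 209, 71)) (.leaf (0, 33, 445))) (.node 1 (.leaf (0, 101, 445)) (.leaf (0, 188, 381)))))))

def cls2_14 : BT (ℕ × ℕ × ℕ) :=
  (.node 16 (.node 8 (.node 4 (.node 2 (.node 1 (.leaf (0, 122, 319)) (.leaf (0, 131, 71))) (.node 1 (.leaf (0, 73, 525)) (.leaf (0, 152, 319)))) (.node 2 (.node 1 (.leaf (0, 106, 71)) (.leaf (0, 6, 319))) (.node 1 (.leaf (0, 67, 525)) (.leaf (6, 455, 0))))) (.node 4 (.node 2 (.node 1 (.leaf (0, 116, 381)) (.leaf (0, 41, 381))) (.node 1 (.leaf (0, 98, 525)) (.leaf (0, 44, 381)))) (.node 2 (.node 1 (.leaf (0, 28, 71)) (.leaf (0, 9, 319))) (.node 1 (.leaf (0, 47, 71)) (.leaf (0, 16, 445)))))) (.node 8 (.node 4 (.node 2 (.node 1 (.leaf (0, 11, 525)) (.leaf (0, 149, 445))) (.node 1 (.leaf (0, 54, 381)) (.leaf (0, 155, 445)))) (.node 2 (.node 1 (.leaf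 (0, 91, 445)) (.leaf (0, 432, 525))) (.node 1 (.leaf (0, 90, 319)) (.leaf (0, 61, 319))))) (.node 4 (.node 2 (.node 1 (.leaf (0, 81, 381)) (.leaf (0, 25, 525))) (.node 1 (.leaf (0, 354, 71)) (.leaf (0, 404, 381)))) (.node 2 (.node 1 (.leaf (0, 263, 381)) (.leaf (0, 21, 381))) (.node 1 (.leaf (0, 3, 525)) (.leaf (0, 0, 445)))))))

def cls2_15 : BT (ℕ × ℕ × ℕ) :=
  (.node 16 (.node 8 (.node 4 (.node 2 (.node 1 (.leaf (0, 90, 445)) (.leaf (0, 404, 319))) (.node 1 (.leaf (0, 58, 525)) (.leaf (0, 134, 319)))) (.node 2 (.node 1 (.leaf (0, 90, 71)) (.leaf (0, 251, 445))) (.node 1 (.leaf (0, 91, 71)) (.leaf (0, 48, 319))))) (.node 4 (.node 2 (.node 1 (.leaf (0, 18, 319)) (.leaf (0, 354, 319))) (.node 1 (.leaf (0, 172, 381)) (.leaf (0, 166, 445)))) (.node 2 (.node 1 (.leaf (0, 43, 445)) (.leaf (0, 270, 71))) (.node 1 (.leaf (0, 105, 445)) (.leaf (0,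 60, 381)))))) (.node 8 (.node 4 (.node 2 (.node 1 (.leaf (0, 209, 381)) (.leaf (0, 155, 319))) (.node 1 (.leaf (0, 172, 319)) (.leaf (0, 86, 525)))) (.node 2 (.node 1 (.leaf (0, 106, 381)) (.leaf (0, 148, 445))) (.node 1 (.leaf (0, 284, 319)) (.leaf (0, 41, 71))))) (.node 4 (.node 2 (.node 1 (.leaf (0, 251, 71)) (.leaf (0, 404, 445))) (.node 1 (.leaf (0, 67, 381)) (.leaf (0, 52, 319)))) (.node 2 (.node 1 (.leaf (0, 109, 71)) (.leaf (0, 26, 319))) (.node 1 (.leaf (0, 10, 71)) (.leaf (0, 98, 71)))))))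

def cls2_16 : BT (ℕ × ℕ × ℕ) :=
  (.node 16 (.node 8 (.node 4 (.node 2 (.node 1 (.leaf (0, 167, 445)) (.leaf (0, 135, 319))) (.node 1 (.leaf (0, 111, 71)) (.leaf (0, 100, 381)))) (.node 2 (.node 1 (.leaf (0, 46, 319)) (.leaf (0, 72, 445))) (.node 1 (.leaf (0, 220, 381)) (.leaf (0, 66, 319))))) (.node 4 (.node 2 (.node 1 (.leaf (0, 142, 381)) (.leaf (0, 174, 525))) (.node 1 (.leaf (0, 55, 319)) (.leaf (0, 83, 525)))) (.node 2 (.node 1 (.leaf (0, 27, 319)) (.leaf (0, 220, 319))) (.node 1 (.leaf (0, 111, 381)) (.leaf (0, 79, 445)))))) (.node 8 (.node 4 (.node 2 (.node 1 (.leaf (0, 195, 319)) (.leaf (0, 73, 381))) (.node 1 (.leaf (0, 149, 381)) (.leaf (0, 111, 445)))) (.node 2 (.node 1 (.leaf (0, 5, 381)) (.leaf (0, 23, 445))) (.node 1 (.leaf (0, 4, 71)) (.leaf (0, 109, 381))))) (.node 4 (.node 2 (.node 1 (.leaf (0, 8, 525)) (.leaf (0, 79, 525)))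 (.node 1 (.leaf (0, 52, 381)) (.leaf (0, 198, 71)))) (.node 2 (.node 1 (.leaf (0, 404, 525)) (.leaf (0, 65, 319))) (.node 1 (.leaf (0, 125, 445)) (.leaf (0, 61, 71)))))))

def cls2_17 : BT (ℕ × ℕ × ℕ) :=
  (.node 16 (.node 8 (.node 4 (.node 2 (.node 1 (.leaf (0, 23, 525)) (.leaf (0, 135, 71))) (.node 1 (.leaf (0, 165, 71)) (.leaf (0, 88, 71)))) (.node 2 (.node 1 (.leaf (0, 83, 381)) (.leaf (0, 44, 525))) (.node 1 (.leaf (0, 3, 381)) (.leaf (0, 159, 525))))) (.node 4 (.node 2 (.node 1 (.leaf (0, 167, 319)) (.leaf (0, 2, 319))) (.node 1 (.leaf (0, 88, 319)) (.leaf (0, 26, 525)))) (.node 2 (.node 1 (.leaf (0, 19, 381)) (.leaf (0, 16, 525))) (.node 1 (.leaf (0, 83, 319)) (.leaf (0, 145, 71)))))) (.node 8 (.node 4 (.node 2 (.node 1 (.leaf (0, 19, 319)) (.leaf (0, 432, 71))) (.node 1 (.leaf (0, 166, 381)) (.leaf (0, 67, 71)))) (.node 2 (.node 1 (.leaf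 (0, 122, 445)) (.leaf (0, 195, 445))) (.node 1 (.leaf (0, 180, 319)) (.leaf (0, 432, 381))))) (.node 4 (.node 2 (.node 1 (.leaf (0, 270, 319)) (.leaf (0, 259, 525))) (.node 1 (.leaf (0, 43, 319)) (.leaf (0, 250, 445)))) (.node 2 (.node 1 (.leaf (0, 6, 525)) (.leaf (0, 55, 381))) (.node 1 (.leaf (0, 44, 319)) (.leaf (0, 270, 381)))))))

def cls2_18 : BT (ℕ × ℕ × ℕ) :=
  (.node 16 (.node 8 (.node 4 (.node 2 (.node 1 (.leaf (0, 174, 319)) (.leaf (0, 4, 525))) (.node 1 (.leaf (0, 17, 525)) (.leaf (0, 152, 381)))) (.node 2 (.node 1 (.leaf (0, 3, 319)) (.leaf (0, 455, 71))) (.node 1 (.leaf (0, 44, 445)) (.leaf (0, 73, 71))))) (.node 4 (.node 2 (.node 1 (.leaf (0, 25, 71)) (.leaf (0, 140, 319))) (.node 1 (.leaf (0, 165, 319)) (.leaf (0, 198, 319)))) (.node 2 (.node 1 (.leaf (0, 132, 381)) (.leaf (0, 77, 381))) (.node 1 (.leaf (0, 132, 71)) (.leaf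 (0, 259, 71)))))) (.node 8 (.node 4 (.node 2 (.node 1 (.leaf (0, 135, 525)) (.leaf (0, 93, 525))) (.node 1 (.leaf (0, 25, 381)) (.leaf (0, 250, 319)))) (.node 2 (.node 1 (.leaf (0, 18, 381)) (.leaf (0, 62, 381))) (.node 1 (.leaf (0, 135, 381)) (.leaf (0, 72, 381))))) (.node 4 (.node 2 (.node 1 (.leaf (0, 108, 525)) (.leaf (0, 74, 319))) (.node 1 (.leaf (0, 108, 445)) (.leaf (0, 10, 525)))) (.node 2 (.node 1 (.leaf (0, 220, 71)) (.leaf (0, 116, 445))) (.node 1 (.leaf (0, 131, 525)) (.leaf (0, 26, 381)))))))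

def cls2_19 : BT (ℕ × ℕ × ℕ) :=
  (.node 16 (.node 8 (.node 4 (.node 2 (.node 1 (.leaf (0, 131, 319)) (.leaf (0, 101, 71))) (.node 1 (.leaf (0, 86, 319)) (.leaf (0, 86, 71)))) (.node 2 (.node 1 (.leaf (0, 38, 445)) (.leaf (0, 172, 525))) (.node 1 (.leaf (0, 52, 445)) (.leaf (0, 107, 381))))) (.node 4 (.node 2 (.node 1 (.leaf (0, 2, 445)) (.leaf (0, 68, 525))) (.node 1 (.leaf (0, 44, 71)) (.leaf (0, 145, 381)))) (.node 2 (.node 1 (.leaf (0, 105, 319)) (.leaf (0, 69, 381))) (.node 1 (.leaf (0, 109, 445)) (.leaf (0, 165, 525)))))) (.node 8 (.node 4 (.node 2 (.node 1 (.leaf (0, 0, 525)) (.leaf (0, 116, 525))) (.node 1 (.leaf (0, 149, 71)) (.leaf (0, 10, 319)))) (.node 2 (.node 1 (.leaf (0, 250, 381)) (.leaf (0, 7, 319))) (.node 1 (.leaf (0, 195, 525)) (.leaf (0, 31, 319))))) (.node 4 (.node 2 (.node 1 (.leaf (0, 12, 319)) (.leaf (0, 134, 381)))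 (.node 1 (.leaf (0, 432, 445)) (.leaf (0, 145, 319)))) (.node 2 (.node 1 (.leaf (0, 81, 319)) (.leaf (0, 56, 71))) (.node 1 (.leaf (0, 86, 381)) (.leaf (0, 62, 319)))))))

def cls2_20 : BT (ℕ × ℕ × ℕ) :=
  (.node 10 (.node 5 (.node 2 (.node 1 (.leaf (0, 75, 445)) (.leaf (0, 195, 381))) (.node 1 (.leaf (0, 404, 71)) (.node 1 (.leaf (0, 73, 445)) (.leaf (0, 1, 445))))) (.node 2 (.node 1 (.leaf (0, 209, 319)) (.leaf (0, 131, 445))) (.node 1 (.leaf (0, 61, 445)) (.node 1 (.leaf (0, 23, 71)) (.leaf (0, 56, 445)))))) (.node 5 (.node 2 (.node 1 (.leaf (0, 167, 71)) (.leaf (0, 251, 319))) (.node 1 (.leaf (0, 48, 445)) (.node 1 (.leaf (0, 109, 319)) (.leaf (0, 48, 381))))) (.node 2 (.node 1 (.leaf (0, 145, 445)) (.leaf (0, 35, 381))) (.node 1 (.leaf (0, 220, 525)) (.node 1 (.leaf (0, 80, 525)) (.leaf (0, 104, 445)))))))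

/-- Table `cls2`. -/
def cls2 : BT (ℕ × ℕ × ℕ) :=
  (.node 320 (.node 160 (.node 64 (.node 32 cls2_0 cls2_1) (.node 32 cls2_2 (.node 32 cls2_3 cls2_4))) (.node 64 (.node 32 cls2_5 cls2_6) (.node 32 cls2_7 (.node 32 cls2_8 cls2_9)))) (.node 160 (.node 64 (.node 32 cls2_10 cls2_11) (.node 32 cls2_12 (.node 32 cls2_13 cls2_14))) (.node 96 (.node 32 cls2_15 (.node 32 cls2_16 cls2_17)) (.node 32 cls2_18 (.node 32 cls2_19 cls2_20)))))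

def cls3_0 : BT (ℕ × ℕ × ℕ) :=
  (.node 16 (.node 8 (.node 4 (.node 2 (.node 1 (.leaf (10, 0, 0)) (.leaf (10, 1, 0))) (.node 1 (.leaf (10, 2, 0)) (.leaf (0, 2, 437)))) (.node 2 (.node 1 (.leaf (7, 4, 0)) (.leaf (19, 5, 0))) (.node 1 (.leaf (0, 4, 592)) (.leaf (19, 7, 0))))) (.node 4 (.node 2 (.node 1 (.leaf (0, 2, 555)) (.leaf (19, 9, 0))) (.node 1 (.leaf (15, 10, 0)) (.leaf (10, 11, 0)))) (.node 2 (.node 1 (.leaf (0, 5, 48)) (.leaf (10, 13, 0))) (.node 1 (.leaf (6, 14, 0)) (.leaf (0, 4, 95)))))) (.node 8 (.node 4 (.node 2 (.node 1 (.leaf (11, 16, 0)) (.leaf (0, 16, 343))) (.node 1 (.leaf (0, 16, 301)) (.leaf (0, 9, 493)))) (.node 2 (.node 1 (.leaf (0, 9, 218)) (.leaf (0, 9, 540))) (.node 1 (.leaf (7, 22, 0)) (.leaf (6, 23, 0))))) (.node 4 (.node 2 (.node 1 (.leaf (0, 10, 199)) (.leaf (0, 1, 438))) (.node 1 (.leaf (0, 23, 396)) (.leaf (0,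 10, 387)))) (.node 2 (.node 1 (.leaf (0, 10, 609)) (.leaf (0, 5, 81))) (.node 1 (.leaf (0, 2, 195)) (.leaf (0, 16, 651)))))))

def cls3_1 : BT (ℕ × ℕ × ℕ) :=
  (.node 16 (.node 8 (.node 4 (.node 2 (.node 1 (.leaf (0, 0, 58)) (.leaf (0, 9, 225))) (.node 1 (.leaf (0, 9, 157)) (.leaf (0, 9, 211)))) (.node 2 (.node 1 (.leaf (0, 22, 592)) (.leaf (0, 2, 301))) (.node 1 (.leaf (0, 0, 493)) (.leaf (0, 22, 540))))) (.node 4 (.node 2 (.node 1 (.leaf (0, 4, 156)) (.leaf (0, 2, 387))) (.node 1 (.leaf (0, 2, 199)) (.leaf (0, 1, 58)))) (.node 2 (.node 1 (.leaf (0, 5, 616)) (.leaf (0, 7, 40))) (.node 1 (.leaf (0, 0, 423)) (.leaf (0, 10, 343)))))) (.node 8 (.node 4 (.node 2 (.node 1 (.leaf (0, 10, 540)) (.leaf (0, 9, 437))) (.node 1 (.leaf (0, 22, 632)) (.leaf (0, 22, 175)))) (.node 2 (.node 1 (.leaf (0, 9, 616)) (.leaf (0, 22, 649))) (.node 1 (.leaf (0, 10,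 563)) (.leaf (0, 4, 540))))) (.node 4 (.node 2 (.node 1 (.leaf (0, 4, 438)) (.leaf (0, 7, 195))) (.node 1 (.leaf (0, 7, 363)) (.leaf (0, 11, 40)))) (.node 2 (.node 1 (.leaf (0, 22, 181)) (.leaf (0, 23, 442))) (.node 1 (.leaf (0, 23, 632)) (.leaf (0, 4, 199)))))))

def cls3_2 : BT (ℕ × ℕ × ℕ) :=
  (.node 16 (.node 8 (.node 4 (.node 2 (.node 1 (.leaf (10, 64, 0)) (.leaf (0, 4, 49))) (.node 1 (.leaf (0, 5, 385)) (.leaf (0, 1, 38)))) (.node 2 (.node 1 (.leaf (0, 0, 635)) (.leaf (10, 69, 0))) (.node 1 (.leaf (0, 2, 363)) (.leaf (0, 64, 58))))) (.node 4 (.node 2 (.node 1 (.leaf (0, 2, 609)) (.leaf (0, 10, 58))) (.node 1 (.leaf (0, 22, 423)) (.leaf (0, 10, 225)))) (.node 2 (.node 1 (.leaf (0, 10, 40)) (.leaf (0, 1, 540))) (.node 1 (.leaf (0, 69, 218)) (.leaf (0, 10, 398)))))) (.node 8 (.node 4 (.node 2 (.node 1 (.leaf (0, 23, 225)) (.leaf (0, 4, 211)))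 (.node 1 (.leaf (0, 22, 173)) (.leaf (0, 5, 597)))) (.node 2 (.node 1 (.leaf (0, 9, 48)) (.leaf (0, 7, 49))) (.node 1 (.leaf (0, 4, 181)) (.leaf (0, 22, 609))))) (.node 4 (.node 2 (.node 1 (.leaf (0, 9, 58)) (.leaf (0, 10, 616))) (.node 1 (.leaf (0, 5, 195)) (.leaf (0, 10, 363)))) (.node 2 (.node 1 (.leaf (0, 2, 224)) (.leaf (0, 4, 173))) (.node 1 (.leaf (0, 5, 417)) (.leaf (0, 22, 575)))))))

def cls3_3 : BT (ℕ × ℕ × ℕ) :=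
  (.node 16 (.node 8 (.node 4 (.node 2 (.node 1 (.leaf (0, 16, 173)) (.leaf (0, 4, 18))) (.node 1 (.leaf (0, 16, 48)) (.leaf (0, 7, 199)))) (.node 2 (.node 1 (.leaf (0, 16, 442)) (.leaf (0, 9, 592))) (.node 1 (.leaf (0, 1, 181)) (.leaf (0, 1, 385))))) (.node 4 (.node 2 (.node 1 (.leaf (0, 7, 417)) (.leaf (0, 16, 195))) (.node 1 (.leaf (0, 23, 363)) (.leaf (0, 7, 81)))) (.node 2 (.node 1 (.leaf (0, 0, 555)) (.leaf (0, 22, 651))) (.node 1 (.leaf (0, 9, 417)) (.leaf (0, 9, 438)))))) (.node 8 (.node 4 (.node 2 (.node 1 (.leaf (0, 10, 632)) (.leaf (0, 0, 592))) (.node 1 (.leaf (0, 1, 211)) (.leaf (0, 11, 95)))) (.node 2 (.node 1 (.leaf (0, 23, 218)) (.leaf (0, 5, 58))) (.node 1 (.leaf (0, 7, 609)) (.leaf (0, 10, 419))))) (.node 4 (.node 2 (.node 1 (.leaf (0, 2, 211)) (.leaf (0, 22, 188))) (.node 1 (.leaf (0, 2, 38)) (.leaf (0, 23, 649)))) (.node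 2 (.node 1 (.leaf (0, 10, 224)) (.leaf (0, 22, 301))) (.node 1 (.leaf (0, 7, 173)) (.leaf (0, 0, 540)))))))

def cls3_4 : BT (ℕ × ℕ × ℕ) :=
  (.node 16 (.node 8 (.node 4 (.node 2 (.node 1 (.leaf (0, 16, 635)) (.leaf (0, 22, 58))) (.node 1 (.leaf (0, 23, 398)) (.leaf (0, 10, 493)))) (.node 2 (.node 1 (.leaf (0, 69, 49)) (.leaf (0, 11, 225))) (.node 1 (.leaf (0, 0, 649)) (.leaf (0, 1, 95))))) (.node 4 (.node 2 (.node 1 (.leaf (0, 5, 301)) (.leaf (0, 11, 188))) (.node 1 (.leaf (0, 64, 157)) (.leaf (0, 5, 398)))) (.node 2 (.node 1 (.leaf (0, 10, 173)) (.leaf (0, 22, 199))) (.node 1 (.leaf (0, 10, 597)) (.leaf (0, 16, 95)))))) (.node 8 (.node 4 (.node 2 (.node 1 (.leaf (0, 23, 592)) (.leaf (0, 16, 609))) (.node 1 (.leaf (0, 0, 249)) (.leaf (0, 2, 157)))) (.node 2 (.node 1 (.leaf (0, 22, 194)) (.leaf (0, 11, 18))) (.node 1 (.leaf (0, 10, 218)) (.leaf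 (0, 5, 181))))) (.node 4 (.node 2 (.node 1 (.leaf (0, 22, 312)) (.leaf (0, 16, 555))) (.node 1 (.leaf (0, 23, 49)) (.leaf (0, 5, 188)))) (.node 2 (.node 1 (.leaf (0, 7, 181)) (.leaf (0, 2, 344))) (.node 1 (.leaf (0, 4, 38)) (.leaf (0, 16, 387)))))))

def cls3_5 : BT (ℕ × ℕ × ℕ) :=
  (.node 16 (.node 8 (.node 4 (.node 2 (.node 1 (.leaf (0, 7, 649)) (.leaf (0, 14, 49))) (.node 1 (.leaf (0, 5, 49)) (.leaf (0, 13, 194)))) (.node 2 (.node 1 (.leaf (0, 16, 225)) (.leaf (0, 69, 38))) (.node 1 (.leaf (0, 0, 363)) (.leaf (0, 16, 81))))) (.node 4 (.node 2 (.node 1 (.leaf (0, 1, 609)) (.leaf (0, 22, 344))) (.node 1 (.leaf (0, 9, 195)) (.leaf (0, 16, 563)))) (.node 2 (.node 1 (.leaf (0, 0, 49)) (.leaf (0, 10, 555))) (.node 1 (.leaf (0, 16, 188)) (.leaf (0, 16, 194)))))) (.node 8 (.node 4 (.node 2 (.node 1 (.leaf (0, 9, 563)) (.leaf (0, 7, 592))) (.node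 1 (.leaf (0, 10, 635)) (.leaf (0, 10, 211)))) (.node 2 (.node 1 (.leaf (0, 1, 555)) (.leaf (0, 10, 48))) (.node 1 (.leaf (0, 22, 40)) (.leaf (0, 9, 344))))) (.node 4 (.node 2 (.node 1 (.leaf (0, 10, 385)) (.leaf (0, 9, 396))) (.node 1 (.leaf (0, 16, 398)) (.leaf (0, 4, 493)))) (.node 2 (.node 1 (.leaf (0, 0, 499)) (.leaf (0, 7, 225))) (.node 1 (.leaf (0, 1, 156)) (.leaf (0, 10, 181)))))))

def cls3_6 : BT (ℕ × ℕ × ℕ) :=
  (.node 16 (.node 8 (.node 4 (.node 2 (.node 1 (.leaf (0, 64, 48)) (.leaf (0, 7, 175))) (.node 1 (.leaf (0, 0, 175)) (.leaf (0, 16, 438)))) (.node 2 (.node 1 (.leaf (0, 16, 344)) (.leaf (0, 5, 423))) (.node 1 (.leaf (0, 1, 199)) (.leaf (0, 22, 419))))) (.node 4 (.node 2 (.node 1 (.leaf (0, 9, 40)) (.leaf (0, 1, 188))) (.node 1 (.leaf (0, 1, 589)) (.leaf (0, 5, 194)))) (.node 2 (.node 1 (.leaf (0, 16, 632)) (.leaf (0, 23, 199)))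 (.node 1 (.leaf (0, 23, 157)) (.leaf (0, 5, 344)))))) (.node 8 (.node 4 (.node 2 (.node 1 (.leaf (0, 0, 224)) (.leaf (0, 5, 635))) (.node 1 (.leaf (0, 7, 398)) (.leaf (0, 4, 589)))) (.node 2 (.node 1 (.leaf (0, 5, 651)) (.leaf (0, 9, 38))) (.node 1 (.leaf (0, 23, 651)) (.leaf (0, 9, 267))))) (.node 4 (.node 2 (.node 1 (.leaf (0, 2, 194)) (.leaf (0, 16, 249))) (.node 1 (.leaf (0, 1, 81)) (.leaf (0, 23, 423)))) (.node 2 (.node 1 (.leaf (0, 16, 40)) (.leaf (0, 5, 175))) (.node 1 (.leaf (0, 1, 175)) (.leaf (0, 5, 363)))))))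

def cls3_7 : BT (ℕ × ℕ × ℕ) :=
  (.node 16 (.node 8 (.node 4 (.node 2 (.node 1 (.leaf (0, 1, 249)) (.leaf (0, 5, 649))) (.node 1 (.leaf (0, 22, 218)) (.leaf (0, 5, 225)))) (.node 2 (.node 1 (.leaf (0, 7, 188)) (.leaf (0, 22, 49))) (.node 1 (.leaf (0, 9, 301)) (.leaf (0, 22, 493))))) (.node 4 (.node 2 (.node 1 (.leaf (0, 5, 592)) (.leaf (0, 5, 387))) (.node 1 (.leaf (0, 7, 48)) (.leaf (0, 16, 597)))) (.node 2 (.node 1 (.leaf (0, 0, 597)) (.leaf (0, 23, 211))) (.node 1 (.leaf (0, 23, 563)) (.leaf (0, 16, 224)))))) (.node 8 (.node 4 (.node 2 (.node 1 (.leaf (0, 16, 419)) (.leaf (0, 9, 649))) (.node 1 (.leaf (0, 2, 592)) (.leaf (0, 22, 499)))) (.node 2 (.node 1 (.leaf (0, 0, 18)) (.leaf (0, 9, 363))) (.node 1 (.leaf (0, 16, 38)) (.leaf (0, 16, 18))))) (.node 4 (.node 2 (.node 1 (.leaf (0, 5, 156)) (.leaf (0, 2, 635))) (.node 1 (.leaf (0, 9, 398))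 (.leaf (0, 4, 419)))) (.node 2 (.node 1 (.leaf (0, 16, 423)) (.leaf (0, 7, 423))) (.node 1 (.leaf (0, 1, 363)) (.leaf (0, 0, 211)))))))

def cls3_8 : BT (ℕ × ℕ × ℕ) :=
  (.node 16 (.node 8 (.node 4 (.node 2 (.node 1 (.leaf (0, 1, 18)) (.leaf (0, 13, 173))) (.node 1 (.leaf (0, 14, 95)) (.leaf (0, 5, 40)))) (.node 2 (.node 1 (.leaf (0, 10, 157)) (.leaf (0, 10, 188))) (.node 1 (.leaf (0, 5, 310)) (.leaf (0, 7, 575))))) (.node 4 (.node 2 (.node 1 (.leaf (0, 16, 589)) (.leaf (0, 1, 194))) (.node 1 (.leaf (0, 2, 499)) (.leaf (0, 16, 616)))) (.node 2 (.node 1 (.leaf (0, 23, 40)) (.leaf (0, 4, 218))) (.node 1 (.leaf (0, 1, 635)) (.leaf (0, 9, 419)))))) (.node 8 (.node 4 (.node 2 (.node 1 (.leaf (0, 1, 437)) (.leaf (0, 5, 38))) (.node 1 (.leaf (0, 16, 493)) (.leaf (0, 13, 156)))) (.node 2 (.node 1 (.leaf (0, 10, 396)) (.leaf (0, 7, 385))) (.node 1 (.leaf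 (0, 10, 312)) (.leaf (0, 23, 38))))) (.node 4 (.node 2 (.node 1 (.leaf (0, 9, 173)) (.leaf (0, 7, 249))) (.node 1 (.leaf (0, 22, 437)) (.leaf (0, 1, 417)))) (.node 2 (.node 1 (.leaf (0, 23, 312)) (.leaf (0, 9, 651))) (.node 1 (.leaf (0, 4, 195)) (.leaf (0, 5, 396)))))))

def cls3_9 : BT (ℕ × ℕ × ℕ) :=
  (.node 16 (.node 8 (.node 4 (.node 2 (.node 1 (.leaf (0, 5, 575)) (.leaf (0, 11, 343))) (.node 1 (.leaf (0, 23, 609)) (.leaf (0, 7, 437)))) (.node 2 (.node 1 (.leaf (0, 7, 442)) (.leaf (0, 4, 157))) (.node 1 (.leaf (0, 14, 173)) (.leaf (0, 11, 173))))) (.node 4 (.node 2 (.node 1 (.leaf (0, 2, 95)) (.leaf (0, 0, 267))) (.node 1 (.leaf (0, 9, 156)) (.leaf (0, 9, 423)))) (.node 2 (.node 1 (.leaf (0, 22, 563)) (.leaf (0, 10, 195))) (.node 1 (.leaf (0, 2, 649)) (.leaf (0, 0, 188)))))) (.node 8 (.node 4 (.node 2 (.node 1 (.leaf (0, 13, 18)) (.leaf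 (0, 2, 175))) (.node 1 (.leaf (0, 5, 312)) (.leaf (0, 10, 344)))) (.node 2 (.node 1 (.leaf (0, 1, 48)) (.leaf (0, 0, 81))) (.node 1 (.leaf (0, 5, 224)) (.leaf (0, 7, 597))))) (.node 4 (.node 2 (.node 1 (.leaf (0, 23, 555)) (.leaf (0, 5, 609))) (.node 1 (.leaf (0, 23, 310)) (.leaf (0, 14, 18)))) (.node 2 (.node 1 (.leaf (0, 1, 157)) (.leaf (0, 23, 301))) (.node 1 (.leaf (0, 5, 493)) (.leaf (0, 22, 18)))))))

def cls3_10 : BT (ℕ × ℕ × ℕ) :=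
  (.node 16 (.node 8 (.node 4 (.node 2 (.node 1 (.leaf (0, 0, 575)) (.leaf (0, 1, 344))) (.node 1 (.leaf (0, 7, 499)) (.leaf (0, 10, 437)))) (.node 2 (.node 1 (.leaf (0, 5, 438)) (.leaf (0, 1, 616))) (.node 1 (.leaf (0, 4, 175)) (.leaf (0, 2, 438))))) (.node 4 (.node 2 (.node 1 (.leaf (0, 1, 40)) (.leaf (0, 0, 589))) (.node 1 (.leaf (0, 16, 267)) (.leaf (0, 5, 419)))) (.node 2 (.node 1 (.leaf (0, 4, 597)) (.leaf (0, 2, 49))) (.node 1 (.leaf (0, 0, 385)) (.leaf (0, 11, 194)))))) (.node 8 (.node 4 (.node 2 (.node 1 (.leaf (0, 4, 555)) (.leaf (0, 2, 81))) (.node 1 (.leaf (0, 2, 188)) (.leaf (0, 0, 312)))) (.node 2 (.node 1 (.leaf (0, 5, 211)) (.leaf (0, 23, 188))) (.node 1 (.leaf (0, 5, 173)) (.leaf (0, 23, 540))))) (.node 4 (.node 2 (.node 1 (.leaf (0, 23, 48)) (.leaf (0, 4, 609))) (.node 1 (.leaf (0, 1, 575)) (.leaf (0, 16, 58)))) (.node 2 (.node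 1 (.leaf (0, 22, 157)) (.leaf (0, 1, 649))) (.node 1 (.leaf (0, 5, 442)) (.leaf (0, 9, 597)))))))

def cls3_11 : BT (ℕ × ℕ × ℕ) :=
  (.node 16 (.node 8 (.node 4 (.node 2 (.node 1 (.leaf (0, 23, 499)) (.leaf (0, 1, 310))) (.node 1 (.leaf (0, 0, 38)) (.leaf (0, 4, 635)))) (.node 2 (.node 1 (.leaf (0, 4, 651)) (.leaf (0, 16, 157))) (.node 1 (.leaf (0, 16, 437)) (.leaf (0, 5, 540))))) (.node 4 (.node 2 (.node 1 (.leaf (0, 4, 423)) (.leaf (0, 22, 398))) (.node 1 (.leaf (0, 16, 211)) (.leaf (0, 23, 195)))) (.node 2 (.node 1 (.leaf (0, 16, 156)) (.leaf (0, 10, 194))) (.node 1 (.leaf (0, 9, 575)) (.leaf (0, 23, 224)))))) (.node 8 (.node 4 (.node 2 (.node 1 (.leaf (0, 4, 81)) (.leaf (0, 2, 181))) (.node 1 (.leaf (0, 4, 442)) (.leaf (0, 1, 218)))) (.node 2 (.node 1 (.leaf (0, 0, 310)) (.leaf (0, 22, 438))) (.node 1 (.leaf (0, 0, 632)) (.leaf (0, 10,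 49))))) (.node 4 (.node 2 (.node 1 (.leaf (0, 2, 597)) (.leaf (0, 2, 156))) (.node 1 (.leaf (0, 23, 156)) (.leaf (0, 1, 267)))) (.node 2 (.node 1 (.leaf (0, 2, 540)) (.leaf (0, 22, 95))) (.node 1 (.leaf (0, 2, 563)) (.leaf (0, 0, 48)))))))

def cls3_12 : BT (ℕ × ℕ × ℕ) :=
  (.node 16 (.node 8 (.node 4 (.node 2 (.node 1 (.leaf (0, 4, 632)) (.leaf (0, 7, 632))) (.node 1 (.leaf (0, 7, 194)) (.leaf (0, 5, 218)))) (.node 2 (.node 1 (.leaf (0, 4, 396)) (.leaf (0, 7, 157))) (.node 1 (.leaf (0, 23, 575)) (.leaf (0, 10, 649))))) (.node 4 (.node 2 (.node 1 (.leaf (0, 16, 218)) (.leaf (0, 16, 385))) (.node 1 (.leaf (0, 22, 589)) (.leaf (0, 5, 563)))) (.node 2 (.node 1 (.leaf (0, 5, 199)) (.leaf (0, 7, 156))) (.node 1 (.leaf (0, 5, 95)) (.leaf (0, 2, 417)))))) (.node 8 (.node 4 (.node 2 (.node 1 (.leaf (0, 9, 499)) (.leaf (0, 4, 48))) (.node 1 (.leaf (0,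 23, 343)) (.leaf (0, 0, 181)))) (.node 2 (.node 1 (.leaf (0, 10, 175)) (.leaf (0, 0, 419))) (.node 1 (.leaf (0, 7, 419)) (.leaf (0, 10, 156))))) (.node 4 (.node 2 (.node 1 (.leaf (0, 22, 555)) (.leaf (0, 0, 225))) (.node 1 (.leaf (0, 1, 651)) (.leaf (0, 2, 18)))) (.node 2 (.node 1 (.leaf (0, 7, 635)) (.leaf (0, 5, 589))) (.node 1 (.leaf (0, 0, 616)) (.leaf (0, 22, 343)))))))

def cls3_13 : BT (ℕ × ℕ × ℕ) :=
  (.node 16 (.node 8 (.node 4 (.node 2 (.node 1 (.leaf (0, 22, 211)) (.leaf (0, 4, 40))) (.node 1 (.leaf (0, 22, 387)) (.leaf (0, 23, 18)))) (.node 2 (.node 1 (.leaf (0, 4, 310)) (.leaf (0, 2, 218))) (.node 1 (.leaf (0, 10, 442)) (.leaf (0, 1, 563))))) (.node 4 (.node 2 (.node 1 (.leaf (0, 5, 499)) (.leaf (0, 1, 173))) (.node 1 (.leaf (0, 64, 40)) (.leaf (0, 23, 249)))) (.node 2 (.node 1 (.leaf (0, 2, 396)) (.leaf (0, 13, 188))) (.node 1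 (.leaf (0, 14, 38)) (.leaf (0, 69, 387)))))) (.node 8 (.node 4 (.node 2 (.node 1 (.leaf (0, 4, 267)) (.leaf (0, 2, 40))) (.node 1 (.leaf (0, 10, 423)) (.leaf (0, 7, 555)))) (.node 2 (.node 1 (.leaf (0, 9, 224)) (.leaf (0, 4, 225))) (.node 1 (.leaf (0, 10, 18)) (.leaf (0, 1, 419))))) (.node 4 (.node 2 (.node 1 (.leaf (0, 2, 267)) (.leaf (0, 16, 310))) (.node 1 (.leaf (0, 2, 385)) (.leaf (0, 10, 592)))) (.node 2 (.node 1 (.leaf (0, 16, 396)) (.leaf (0, 4, 249))) (.node 1 (.leaf (0, 5, 632)) (.leaf (0, 22, 249)))))))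

def cls3_14 : BT (ℕ × ℕ × ℕ) :=
  (.node 16 (.node 8 (.node 4 (.node 2 (.node 1 (.leaf (0, 9, 555)) (.leaf (0, 69, 95))) (.node 1 (.leaf (0, 0, 156)) (.leaf (0, 9, 95)))) (.node 2 (.node 1 (.leaf (0, 4, 616)) (.leaf (0, 23, 437))) (.node 1 (.leaf (0, 5, 249)) (.leaf (0, 2, 575))))) (.node 4 (.node 2 (.node 1 (.leaf (0, 0, 40)) (.leaf (0, 7, 18))) (.node 1 (.leaf (0, 23, 417)) (.leaf (0, 14, 58)))) (.node 2 (.node 1 (.leaf (0, 69, 156)) (.leaf (0, 23, 181))) (.node 1 (.leaf (0, 64, 95)) (.leaf (0, 14, 156)))))) (.node 8 (.node 4 (.node 2 (.node 1 (.leaf (0, 1, 195)) (.leaf (0, 23, 194))) (.node 1 (.leaf (0, 64, 49)) (.leaf (0, 2, 48)))) (.node 2 (.node 1 (.leaf (0, 7, 651)) (.leaf (0, 23, 81))) (.node 1 (.leaf (0, 9, 175)) (.leaf (0, 4, 387))))) (.node 4 (.node 2 (.node 1 (.leaf (0, 23, 635)) (.leaf (0, 13, 225))) (.node 1 (.leaf (0, 22, 81))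 (.leaf (0, 69, 48)))) (.node 2 (.node 1 (.leaf (0, 10, 417)) (.leaf (0, 1, 343))) (.node 1 (.leaf (0, 4, 224)) (.leaf (0, 13, 40)))))))

def cls3_15 : BT (ℕ × ℕ × ℕ) :=
  (.node 16 (.node 8 (.node 4 (.node 2 (.node 1 (.leaf (0, 9, 635)) (.leaf (0, 7, 310))) (.node 1 (.leaf (0, 2, 423)) (.leaf (0, 23, 616)))) (.node 2 (.node 1 (.leaf (0, 0, 95)) (.leaf (0, 22, 442))) (.node 1 (.leaf (0, 64, 194)) (.leaf (0, 16, 363))))) (.node 4 (.node 2 (.node 1 (.leaf (0, 7, 616)) (.leaf (0, 4, 343))) (.node 1 (.leaf (0, 10, 575)) (.leaf (0, 0, 437)))) (.node 2 (.node 1 (.leaf (0, 0, 417)) (.leaf (0, 7, 267))) (.node 1 (.leaf (0, 5, 18)) (.leaf (0, 14, 387)))))) (.node 8 (.node 4 (.node 2 (.node 1 (.leaf (0, 13, 95)) (.leaf (0, 7, 589))) (.node 1 (.leaf (0, 69, 58)) (.leaf (0, 2, 173)))) (.node 2 (.node 1 (.leaf (0, 7, 301)) (.leaf (0, 64, 38))) (.node 1 (.leaf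 (0, 23, 597)) (.leaf (0, 1, 493))))) (.node 4 (.node 2 (.node 1 (.leaf (0, 4, 312)) (.leaf (0, 1, 632))) (.node 1 (.leaf (0, 22, 635)) (.leaf (0, 10, 267)))) (.node 2 (.node 1 (.leaf (0, 22, 156)) (.leaf (0, 1, 442))) (.node 1 (.leaf (0, 4, 188)) (.leaf (0, 23, 385)))))))

def cls3_16 : BT (ℕ × ℕ × ℕ) :=
  (.node 16 (.node 8 (.node 4 (.node 2 (.node 1 (.leaf (0, 22, 417)) (.leaf (0, 9, 589))) (.node 1 (.leaf (0, 23, 95)) (.leaf (0, 2, 312)))) (.node 2 (.node 1 (.leaf (0, 22, 310)) (.leaf (0, 9, 181))) (.node 1 (.leaf (0, 4, 499)) (.leaf (0, 14, 48))))) (.node 4 (.node 2 (.node 1 (.leaf (0, 69, 18)) (.leaf (0, 9, 312))) (.node 1 (.leaf (0, 4, 363)) (.leaf (0, 13, 58)))) (.node 2 (.node 1 (.leaf (0, 22, 225)) (.leaf (0, 23, 344))) (.node 1 (.leaf (0, 7, 224)) (.leaf (0, 2, 419)))))) (.node 8 (.node 4 (.node 2 (.node 1 (.leaf (0, 23, 387)) (.leaf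 (0, 64, 18))) (.node 1 (.leaf (0, 14, 218)) (.leaf (0, 2, 616)))) (.node 2 (.node 1 (.leaf (0, 16, 575)) (.leaf (0, 9, 199))) (.node 1 (.leaf (0, 0, 157)) (.leaf (0, 4, 649))))) (.node 4 (.node 2 (.node 1 (.leaf (0, 1, 224)) (.leaf (0, 2, 343))) (.node 1 (.leaf (0, 22, 195)) (.leaf (0, 16, 592)))) (.node 2 (.node 1 (.leaf (0, 9, 49)) (.leaf (0, 22, 363))) (.node 1 (.leaf (0, 16, 175)) (.leaf (0, 16, 49)))))))

def cls3_17 : BT (ℕ × ℕ × ℕ) :=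
  (.node 16 (.node 8 (.node 4 (.node 2 (.node 1 (.leaf (0, 5, 555)) (.leaf (0, 16, 199))) (.node 1 (.leaf (0, 7, 211)) (.leaf (0, 9, 18)))) (.node 2 (.node 1 (.leaf (0, 0, 199)) (.leaf (0, 0, 396))) (.node 1 (.leaf (0, 2, 398)) (.leaf (0, 7, 38))))) (.node 4 (.node 2 (.node 1 (.leaf (0, 7, 396)) (.leaf (0, 1, 387))) (.node 1 (.leaf (0, 23, 438)) (.leaf (0, 9, 188)))) (.node 2 (.node 1 (.leaf (0, 1, 301)) (.leaf (0, 22, 267))) (.node 1 (.leaf (0, 22, 224)) (.leaf (0, 0, 173)))))) (.node 8 (.node 4 (.node 2 (.node 1 (.leaf (0, 23, 493)) (.leaf (0, 23, 419))) (.node 1 (.leaf (0, 10, 95)) (.leaf (0, 16, 417)))) (.node 2 (.node 1 (.leaf (0, 1, 398)) (.leaf (0, 1, 49))) (.node 1 (.leaf (0, 23, 175)) (.leaf (0, 0, 609))))) (.node 4 (.node 2 (.node 1 (.leaf (0, 13, 343)) (.leaf (0, 2, 651))) (.node 1 (.leaf (0, 10, 589)) (.leaf (0, 1, 597)))) (.node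 2 (.node 1 (.leaf (0, 10, 301)) (.leaf (0, 4, 344))) (.node 1 (.leaf (0, 22, 616)) (.leaf (0, 22, 38)))))))

def cls3_18 : BT (ℕ × ℕ × ℕ) :=
  (.node 16 (.node 8 (.node 4 (.node 2 (.node 1 (.leaf (0, 2, 225)) (.leaf (0, 4, 398))) (.node 1 (.leaf (0, 5, 437)) (.leaf (0, 9, 249)))) (.node 2 (.node 1 (.leaf (0, 16, 649)) (.leaf (0, 7, 438))) (.node 1 (.leaf (0, 10, 310)) (.leaf (0, 4, 563))))) (.node 4 (.node 2 (.node 1 (.leaf (0, 9, 310)) (.leaf (0, 4, 301))) (.node 1 (.leaf (0, 5, 157)) (.leaf (0, 10, 651)))) (.node 2 (.node 1 (.leaf (0, 10, 438)) (.leaf (0, 7, 58))) (.node 1 (.leaf (0, 7, 218)) (.leaf (0, 9, 385)))))) (.node 8 (.node 4 (.node 2 (.node 1 (.leaf (0, 1, 312)) (.leaf (0, 10, 499))) (.node 1 (.leaf (0, 2, 442)) (.leaf (0, 4, 194)))) (.node 2 (.node 1 (.leaf (0, 1, 499)) (.leaf (0, 9, 343))) (.node 1 (.leaf (0, 7, 563)) (.leaf (0,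 2, 58))))) (.node 4 (.node 2 (.node 1 (.leaf (0, 16, 312)) (.leaf (0, 2, 589))) (.node 1 (.leaf (0, 0, 438)) (.leaf (0, 0, 563)))) (.node 2 (.node 1 (.leaf (0, 5, 267)) (.leaf (0, 2, 493))) (.node 1 (.leaf (0, 64, 218)) (.leaf (0, 16, 540)))))))

def cls3_19 : BT (ℕ × ℕ × ℕ) :=
  (.node 16 (.node 8 (.node 4 (.node 2 (.node 1 (.leaf (0, 10, 38)) (.leaf (0, 2, 310))) (.node 1 (.leaf (0, 9, 387)) (.leaf (0, 10, 81)))) (.node 2 (.node 1 (.leaf (0, 4, 437)) (.leaf (0, 7, 344))) (.node 1 (.leaf (0, 69, 173)) (.leaf (0, 9, 194))))) (.node 4 (.node 2 (.node 1 (.leaf (0, 0, 651)) (.leaf (0, 10, 249))) (.node 1 (.leaf (0, 16, 181)) (.leaf (0, 0, 442)))) (.node 2 (.node 1 (.leaf (0, 7, 343)) (.leaf (0, 7, 540))) (.node 1 (.leaf (0, 22, 48)) (.leaf (0, 2, 632)))))) (.node 8 (.node 4 (.node 2 (.node 1 (.leaf (0, 22, 385)) (.leaf (0, 7, 387))) (.node 1 (.leaf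 (0, 23, 173)) (.leaf (0, 4, 417)))) (.node 2 (.node 1 (.leaf (0, 1, 423)) (.leaf (0, 4, 575))) (.node 1 (.leaf (0, 7, 312)) (.leaf (0, 9, 81))))) (.node 4 (.node 2 (.node 1 (.leaf (0, 1, 592)) (.leaf (0, 23, 267))) (.node 1 (.leaf (0, 11, 156)) (.leaf (0, 22, 597)))) (.node 2 (.node 1 (.leaf (0, 23, 589)) (.leaf (0, 0, 344))) (.node 1 (.leaf (0, 23, 58)) (.leaf (0, 0, 218)))))))

def cls3_20 : BT (ℕ × ℕ × ℕ) :=
  (.node 10 (.node 5 (.node 2 (.node 1 (.leaf (0, 0, 398)) (.leaf (0, 0, 301))) (.node 1 (.leaf (0, 16, 499)) (.node 1 (.leaf (0, 4, 58)) (.leaf (0, 1, 396))))) (.node 2 (.node 1 (.leaf (0, 5, 343)) (.leaf (0, 7, 95))) (.node 1 (.leaf (0, 0, 195)) (.node 1 (.leaf (0, 9, 632)) (.leaf (0, 9, 609)))))) (.node 5 (.node 2 (.node 1 (.leaf (0, 4, 385)) (.leaf (0, 22, 396))) (.node 1 (.leaf (0, 9, 442)) (.node 1 (.leaf (0, 0, 343)) (.leaf (0,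 0, 387))))) (.node 2 (.node 1 (.leaf (0, 0, 194)) (.leaf (0, 7, 493))) (.node 1 (.leaf (0, 2, 249)) (.node 1 (.leaf (0, 1, 225)) (.leaf (0, 11, 58)))))))

/-- Table `cls3`. -/
def cls3 : BT (ℕ × ℕ × ℕ) :=
  (.node 320 (.node 160 (.node 64 (.node 32 cls3_0 cls3_1) (.node 32 cls3_2 (.node 32 cls3_3 cls3_4))) (.node 64 (.node 32 cls3_5 cls3_6) (.node 32 cls3_7 (.node 32 cls3_8 cls3_9)))) (.node 160 (.node 64 (.node 32 cls3_10 cls3_11) (.node 32 cls3_12 (.node 32 cls3_13 cls3_14))) (.node 96 (.node 32 cls3_15 (.node 32 cls3_16 cls3_17)) (.node 32 cls3_18 (.node 32 cls3_19 cls3_20)))))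

def cls4_0 : BT (ℕ × ℕ × ℕ) :=
  (.node 16 (.node 8 (.node 4 (.node 2 (.node 1 (.leaf (10, 0, 0)) (.leaf (19, 1, 0))) (.node 1 (.leaf (0, 1, 564)) (.leaf (19, 3, 0)))) (.node 2 (.node 1 (.leaf (0, 1, 538)) (.leaf (0, 1, 530))) (.node 1 (.leaf (7, 6, 0)) (.leaf (0, 6, 250))))) (.node 4 (.node 2 (.node 1 (.leaf (0, 6, 283)) (.leaf (15, 9, 0))) (.node 1 (.leaf (10, 10, 0)) (.leaf (0, 1, 198)))) (.node 2 (.node 1 (.leaf (0, 3, 497)) (.leaf (10, 13, 0))) (.node 1 (.leaf (15, 14, 0)) (.leaf (0, 1, 524)))))) (.node 8 (.node 4 (.node 2 (.node 1 (.leaf (0, 14, 492)) (.leaf (10, 17, 0))) (.node 1 (.leaf (0, 6, 296)) (.leaf (0, 14, 191)))) (.node 2 (.node 1 (.leaf (6, 20, 0)) (.leaf (0, 1, 226))) (.node 1 (.leaf (6, 22, 0)) (.leaf (0, 17, 492))))) (.node 4 (.node 2 (.node 1 (.leaf (6, 24, 0)) (.leaf (0, 9, 577))) (.node 1 (.leaf (0, 20, 191)) (.leaf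 (0, 1, 497)))) (.node 2 (.node 1 (.leaf (0, 9, 259)) (.leaf (6, 29, 0))) (.node 1 (.leaf (19, 30, 0)) (.leaf (10, 31, 0)))))))

def cls4_1 : BT (ℕ × ℕ × ℕ) :=
  (.node 16 (.node 8 (.node 4 (.node 2 (.node 1 (.leaf (0, 29, 314)) (.leaf (0, 30, 577))) (.node 1 (.leaf (0, 29, 404)) (.leaf (0, 6, 632)))) (.node 2 (.node 1 (.leaf (0, 6, 368)) (.leaf (15, 37, 0))) (.node 1 (.leaf (0, 29, 368)) (.leaf (0, 1, 218))))) (.node 4 (.node 2 (.node 1 (.leaf (0, 30, 564)) (.leaf (0, 3, 564))) (.node 1 (.leaf (0, 22, 250)) (.leaf (0, 14, 188)))) (.node 2 (.node 1 (.leaf (0, 29, 262)) (.leaf (0, 3, 539))) (.node 1 (.leaf (0, 30, 352)) (.leaf (0, 1, 250)))))) (.node 8 (.node 4 (.node 2 (.node 1 (.leaf (0, 22, 577)) (.leaf (0, 37, 23))) (.node 1 (.leaf (0, 10, 73)) (.leaf (0, 9, 13)))) (.node 2 (.node 1 (.leaf (0, 6, 538)) (.leaf (0, 30, 413))) (.node 1 (.leaf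 (0, 22, 259)) (.leaf (0, 30, 188))))) (.node 4 (.node 2 (.node 1 (.leaf (0, 37, 433)) (.leaf (0, 22, 536))) (.node 1 (.leaf (0, 6, 602)) (.leaf (0, 6, 530)))) (.node 2 (.node 1 (.leaf (0, 30, 562)) (.leaf (0, 13, 404))) (.node 1 (.leaf (0, 13, 314)) (.leaf (0, 22, 456)))))))

def cls4_2 : BT (ℕ × ℕ × ℕ) :=
  (.node 16 (.node 8 (.node 4 (.node 2 (.node 1 (.leaf (0, 10, 85)) (.leaf (0, 9, 539))) (.node 1 (.leaf (0, 6, 262)) (.leaf (0, 14, 98)))) (.node 2 (.node 1 (.leaf (0, 1, 570)) (.leaf (0, 22, 486))) (.node 1 (.leaf (0, 37, 19)) (.leaf (0, 14, 13))))) (.node 4 (.node 2 (.node 1 (.leaf (0, 30, 536)) (.leaf (0, 1, 13))) (.node 1 (.leaf (0, 14, 114)) (.leaf (0, 22, 584)))) (.node 2 (.node 1 (.leaf (0, 20, 141)) (.leaf (0, 14, 262))) (.node 1 (.leaf (0, 9, 73)) (.leaf (0, 29, 283)))))) (.node 8 (.node 4 (.node 2 (.node 1 (.leaf (0, 6, 536)) (.leaf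 (0, 30, 538))) (.node 1 (.leaf (0, 30, 215)) (.leaf (0, 22, 368)))) (.node 2 (.node 1 (.leaf (0, 6, 497)) (.leaf (0, 9, 545))) (.node 1 (.leaf (0, 6, 259)) (.leaf (0, 3, 218))))) (.node 4 (.node 2 (.node 1 (.leaf (0, 20, 98)) (.leaf (0, 9, 226))) (.node 1 (.leaf (0, 22, 538)) (.leaf (0, 1, 584)))) (.node 2 (.node 1 (.leaf (0, 22, 296)) (.leaf (0, 20, 13))) (.node 1 (.leaf (0, 13, 283)) (.leaf (0, 14, 259)))))))

def cls4_3 : BT (ℕ × ℕ × ℕ) :=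
  (.node 16 (.node 8 (.node 4 (.node 2 (.node 1 (.leaf (0, 29, 589)) (.leaf (0, 22, 314))) (.node 1 (.leaf (0, 9, 570)) (.leaf (0, 20, 114)))) (.node 2 (.node 1 (.leaf (0, 3, 13)) (.leaf (0, 3, 352))) (.node 1 (.leaf (0, 1, 141)) (.leaf (0, 3, 536))))) (.node 4 (.node 2 (.node 1 (.leaf (0, 6, 314)) (.leaf (0, 29, 19))) (.node 1 (.leaf (0, 37, 13)) (.leaf (0, 10, 283)))) (.node 2 (.node 1 (.leaf (0, 1, 602)) (.leaf (10, 109, 0))) (.node 1 (.leaf (0, 30, 632)) (.leaf (0, 22, 554)))))) (.node 8 (.node 4 (.node 2 (.node 1 (.leaf (0, 9, 502)) (.leaf (0, 10, 404))) (.node 1 (.leaf (0, 17, 191)) (.leaf (0, 20, 215)))) (.node 2 (.node 1 (.leaf (0, 29, 492)) (.leaf (0, 3, 191))) (.node 1 (.leaf (0, 14, 314)) (.leaf (0, 1, 542))))) (.node 4 (.node 2 (.node 1 (.leaf (0, 10, 530)) (.leaf (0, 17, 335))) (.node 1 (.leaf (0, 30, 162)) (.leaf (0, 29, 413))))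 (.node 2 (.node 1 (.leaf (0, 6, 352)) (.leaf (0, 29, 524))) (.node 1 (.leaf (0, 3, 486)) (.leaf (0, 29, 13)))))))

def cls4_4 : BT (ℕ × ℕ × ℕ) :=
  (.node 16 (.node 8 (.node 4 (.node 2 (.node 1 (.leaf (0, 6, 526)) (.leaf (0, 30, 13))) (.node 1 (.leaf (0, 6, 215)) (.leaf (0, 109, 13)))) (.node 2 (.node 1 (.leaf (0, 6, 13)) (.leaf (0, 29, 191))) (.node 1 (.leaf (0, 10, 218)) (.leaf (0, 30, 441))))) (.node 4 (.node 2 (.node 1 (.leaf (0, 29, 352)) (.leaf (0, 10, 19))) (.node 1 (.leaf (0, 0, 23)) (.leaf (0, 20, 19)))) (.node 2 (.node 1 (.leaf (0, 13, 502)) (.leaf (0, 3, 600))) (.node 1 (.leaf (0, 24, 19)) (.leaf (0, 37, 191)))))) (.node 8 (.node 4 (.node 2 (.node 1 (.leaf (0, 6, 226)) (.leaf (0, 1, 577))) (.node 1 (.leaf (0, 9, 542)) (.leaf (0, 22, 631)))) (.node 2 (.node 1 (.leaf (0, 17, 262)) (.leaf (0, 14, 564))) (.node 1 (.leaf (0, 3, 296))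 (.leaf (0, 29, 85))))) (.node 4 (.node 2 (.node 1 (.leaf (0, 24, 191)) (.leaf (0, 14, 162))) (.node 1 (.leaf (0, 14, 441)) (.leaf (0, 29, 497)))) (.node 2 (.node 1 (.leaf (0, 10, 171)) (.leaf (0, 14, 404))) (.node 1 (.leaf (0, 0, 283)) (.leaf (0, 17, 218)))))))

def cls4_5 : BT (ℕ × ℕ × ℕ) :=
  (.node 16 (.node 8 (.node 4 (.node 2 (.node 1 (.leaf (0, 109, 1)) (.leaf (0, 37, 141))) (.node 1 (.leaf (0, 14, 449)) (.leaf (0, 31, 73)))) (.node 2 (.node 1 (.leaf (0, 9, 524)) (.leaf (0, 30, 368))) (.node 1 (.leaf (0, 29, 16)) (.leaf (0, 30, 497))))) (.node 4 (.node 2 (.node 1 (.leaf (0, 1, 98)) (.leaf (0, 109, 16))) (.node 1 (.leaf (0, 30, 456)) (.leaf (0, 29, 162)))) (.node 2 (.node 1 (.leaf (0, 24, 215)) (.leaf (0, 13, 218))) (.node 1 (.leaf (0, 22, 283)) (.leaf (0, 17, 539)))))) (.node 8 (.node 4 (.node 2 (.node 1 (.leaf (0, 3, 602)) (.leaf (0,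 10, 13))) (.node 1 (.leaf (0, 0, 250)) (.leaf (0, 1, 502)))) (.node 2 (.node 1 (.leaf (0, 30, 314)) (.leaf (0, 24, 16))) (.node 1 (.leaf (0, 9, 584)) (.leaf (0, 9, 536))))) (.node 4 (.node 2 (.node 1 (.leaf (0, 1, 545)) (.leaf (0, 13, 413))) (.node 1 (.leaf (0, 22, 188)) (.leaf (0, 24, 352)))) (.node 2 (.node 1 (.leaf (0, 30, 229)) (.leaf (0, 37, 73))) (.node 1 (.leaf (0, 14, 600)) (.leaf (0, 3, 631)))))))

def cls4_6 : BT (ℕ × ℕ × ℕ) :=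
  (.node 16 (.node 8 (.node 4 (.node 2 (.node 1 (.leaf (0, 20, 218)) (.leaf (0, 6, 524))) (.node 1 (.leaf (0, 13, 395)) (.leaf (0, 14, 218)))) (.node 2 (.node 1 (.leaf (0, 31, 19)) (.leaf (0, 9, 632))) (.node 1 (.leaf (0, 6, 114)) (.leaf (0, 20, 486))))) (.node 4 (.node 2 (.node 1 (.leaf (0, 30, 584)) (.leaf (0, 10, 526))) (.node 1 (.leaf (0, 14, 352)) (.leaf (0, 13, 335)))) (.node 2 (.node 1 (.leaf (0, 0, 218)) (.leaf (0, 1, 536))) (.node 1 (.leaf (0, 3, 545)) (.leaf (0, 3, 577)))))) (.node 8 (.node 4 (.node 2 (.node 1 (.leaf (0, 24, 218)) (.leaf (0, 30, 539))) (.node 1 (.leaf (0, 1, 19)) (.leaf (0, 0, 191)))) (.node 2 (.node 1 (.leaf (0, 10, 456)) (.leaf (0, 17, 188))) (.node 1 (.leaf (0, 109, 229)) (.leaf (0, 29, 562))))) (.node 4 (.node 2 (.node 1 (.leaf (0, 13, 564)) (.leaf (0, 13, 259))) (.node 1 (.leaf (0, 30, 395)) (.leaf (0, 31, 16))))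 (.node 2 (.node 1 (.leaf (0, 37, 188)) (.leaf (0, 13, 1))) (.node 1 (.leaf (0, 30, 486)) (.leaf (0, 9, 486)))))))

def cls4_7 : BT (ℕ × ℕ × ℕ) :=
  (.node 16 (.node 8 (.node 4 (.node 2 (.node 1 (.leaf (0, 37, 335)) (.leaf (0, 31, 141))) (.node 1 (.leaf (0, 9, 296)) (.leaf (0, 22, 562)))) (.node 2 (.node 1 (.leaf (0, 9, 441)) (.leaf (0, 22, 191))) (.node 1 (.leaf (0, 20, 16)) (.leaf (0, 13, 526))))) (.node 4 (.node 2 (.node 1 (.leaf (0, 1, 215)) (.leaf (0, 10, 395))) (.node 1 (.leaf (0, 3, 570)) (.leaf (0, 0, 162)))) (.node 2 (.node 1 (.leaf (0, 17, 486)) (.leaf (0, 13, 497))) (.node 1 (.leaf (0, 17, 13)) (.leaf (0, 37, 85)))))) (.node 8 (.node 4 (.node 2 (.node 1 (.leaf (0, 22, 602)) (.leaf (0, 20, 85))) (.node 1 (.leaf (0, 14, 524)) (.leaf (0, 22, 564)))) (.node 2 (.node 1 (.leaf (0, 9, 564)) (.leaf (0, 14, 283))) (.node 1 (.leaf (0, 13, 250))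 (.leaf (0, 29, 171))))) (.node 4 (.node 2 (.node 1 (.leaf (0, 22, 23)) (.leaf (0, 14, 577))) (.node 1 (.leaf (0, 14, 19)) (.leaf (0, 29, 449)))) (.node 2 (.node 1 (.leaf (0, 9, 98)) (.leaf (0, 13, 492))) (.node 1 (.leaf (0, 14, 570)) (.leaf (0, 1, 191)))))))

def cls4_8 : BT (ℕ × ℕ × ℕ) :=
  (.node 16 (.node 8 (.node 4 (.node 2 (.node 1 (.leaf (0, 29, 539)) (.leaf (0, 29, 229))) (.node 1 (.leaf (0, 24, 141)) (.leaf (0, 3, 114)))) (.node 2 (.node 1 (.leaf (0, 3, 542)) (.leaf (0, 30, 226))) (.node 1 (.leaf (0, 37, 16)) (.leaf (0, 109, 98))))) (.node 4 (.node 2 (.node 1 (.leaf (0, 6, 492)) (.leaf (0, 14, 631))) (.node 1 (.leaf (0, 29, 584)) (.leaf (0, 14, 554)))) (.node 2 (.node 1 (.leaf (0, 13, 162)) (.leaf (0, 13, 562))) (.node 1 (.leaf (0, 10, 524)) (.leaf (0, 22, 98)))))) (.node 8 (.node 4 (.node 2 (.node 1 (.leaf (0, 30, 85)) (.leaf (0, 14,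 198))) (.node 1 (.leaf (0, 20, 162)) (.leaf (0, 9, 554)))) (.node 2 (.node 1 (.leaf (0, 30, 600)) (.leaf (0, 29, 456))) (.node 1 (.leaf (0, 1, 73)) (.leaf (0, 3, 368))))) (.node 4 (.node 2 (.node 1 (.leaf (0, 6, 539)) (.leaf (0, 6, 542))) (.node 1 (.leaf (0, 1, 162)) (.leaf (0, 22, 449)))) (.node 2 (.node 1 (.leaf (0, 3, 456)) (.leaf (0, 22, 600))) (.node 1 (.leaf (0, 109, 114)) (.leaf (0, 1, 352)))))))

def cls4_9 : BT (ℕ × ℕ × ℕ) :=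
  (.node 16 (.node 8 (.node 4 (.node 2 (.node 1 (.leaf (0, 14, 632)) (.leaf (0, 30, 19))) (.node 1 (.leaf (0, 9, 262)) (.leaf (0, 17, 283)))) (.node 2 (.node 1 (.leaf (0, 14, 539)) (.leaf (0, 10, 215))) (.node 1 (.leaf (0, 22, 526)) (.leaf (0, 9, 19))))) (.node 4 (.node 2 (.node 1 (.leaf (0, 22, 589)) (.leaf (0, 29, 250))) (.node 1 (.leaf (0, 1, 296)) (.leaf (0, 1, 492)))) (.node 2 (.node 1 (.leaf (0, 29, 542)) (.leaf (0, 3, 229))) (.node 1 (.leaf (0, 22, 13)) (.leaf (0, 22, 114)))))) (.node 8 (.node 4 (.node 2 (.node 1 (.leaf (0, 14, 502)) (.leaf (0, 24, 13))) (.node 1 (.leaf (0, 3, 314)) (.leaf (0, 1, 441)))) (.node 2 (.node 1 (.leaf (0, 3, 171)) (.leaf (0, 22, 198))) (.node 1 (.leaf (0, 29, 395)) (.leaf (0, 6, 413))))) (.node 4 (.node 2 (.node 1 (.leaf (0, 22, 85)) (.leaf (0, 29, 215))) (.node 1 (.leaf (0, 10, 188)) (.leaf (0, 9, 488))))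 (.node 2 (.node 1 (.leaf (0, 3, 188)) (.leaf (0, 6, 198))) (.node 1 (.leaf (0, 30, 335)) (.leaf (0, 17, 16)))))))

def cls4_10 : BT (ℕ × ℕ × ℕ) :=
  (.node 16 (.node 8 (.node 4 (.node 2 (.node 1 (.leaf (0, 6, 395)) (.leaf (0, 1, 368))) (.node 1 (.leaf (0, 29, 259)) (.leaf (0, 17, 441)))) (.node 2 (.node 1 (.leaf (0, 37, 98)) (.leaf (0, 3, 492))) (.node 1 (.leaf (0, 31, 85)) (.leaf (0, 30, 502))))) (.node 4 (.node 2 (.node 1 (.leaf (0, 29, 502)) (.leaf (0, 3, 162))) (.node 1 (.leaf (0, 0, 16)) (.leaf (0, 9, 449)))) (.node 2 (.node 1 (.leaf (0, 30, 73)) (.leaf (0, 14, 23))) (.node 1 (.leaf (0, 30, 530)) (.leaf (0, 22, 19)))))) (.node 8 (.node 4 (.node 2 (.node 1 (.leaf (0, 14, 526)) (.leaf (0, 1, 526))) (.node 1 (.leaf (0, 6, 545)) (.leaf (0, 14, 584)))) (.node 2 (.node 1 (.leaf (0, 22, 524)) (.leaf (0, 22, 215))) (.node 1 (.leaf (0, 6, 404))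 (.leaf (0, 31, 98))))) (.node 4 (.node 2 (.node 1 (.leaf (0, 22, 413)) (.leaf (0, 1, 229))) (.node 1 (.leaf (0, 3, 16)) (.leaf (0, 22, 539)))) (.node 2 (.node 1 (.leaf (0, 1, 413)) (.leaf (0, 30, 545))) (.node 1 (.leaf (0, 22, 162)) (.leaf (0, 6, 85)))))))

def cls4_11 : BT (ℕ × ℕ × ℕ) :=
  (.node 16 (.node 8 (.node 4 (.node 2 (.node 1 (.leaf (0, 6, 631)) (.leaf (0, 30, 23))) (.node 1 (.leaf (0, 6, 188)) (.leaf (0, 14, 85)))) (.node 2 (.node 1 (.leaf (0, 29, 577)) (.leaf (0, 10, 352))) (.node 1 (.leaf (0, 10, 536)) (.leaf (0, 22, 335))))) (.node 4 (.node 2 (.node 1 (.leaf (0, 17, 296)) (.leaf (0, 9, 283))) (.node 1 (.leaf (0, 13, 486)) (.leaf (0, 14, 602)))) (.node 2 (.node 1 (.leaf (0, 9, 631)) (.leaf (0, 3, 413))) (.node 1 (.leaf (0, 22, 395)) (.leaf (0, 1, 404)))))) (.node 8 (.node 4 (.node 2 (.node 1 (.leaf (0, 17, 19)) (.leaf (0, 3, 562)))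 (.node 1 (.leaf (0, 6, 486)) (.leaf (0, 14, 1)))) (.node 2 (.node 1 (.leaf (0, 22, 16)) (.leaf (0, 29, 73))) (.node 1 (.leaf (0, 14, 229)) (.leaf (0, 37, 250))))) (.node 4 (.node 2 (.node 1 (.leaf (0, 9, 218)) (.leaf (0, 29, 226))) (.node 1 (.leaf (0, 10, 191)) (.leaf (0, 9, 114)))) (.node 2 (.node 1 (.leaf (0, 31, 13)) (.leaf (0, 9, 589))) (.node 1 (.leaf (0, 30, 218)) (.leaf (0, 14, 395)))))))

def cls4_12 : BT (ℕ × ℕ × ℕ) :=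
  (.node 16 (.node 8 (.node 4 (.node 2 (.node 1 (.leaf (0, 31, 114)) (.leaf (0, 30, 259))) (.node 1 (.leaf (0, 30, 570)) (.leaf (0, 6, 23)))) (.node 2 (.node 1 (.leaf (0, 29, 141)) (.leaf (0, 6, 335))) (.node 1 (.leaf (0, 29, 1)) (.leaf (0, 29, 554))))) (.node 4 (.node 2 (.node 1 (.leaf (0, 3, 198)) (.leaf (0, 29, 296))) (.node 1 (.leaf (0, 29, 538)) (.leaf (0, 6, 600)))) (.node 2 (.node 1 (.leaf (0, 1, 114)) (.leaf (0, 10, 141))) (.node 1 (.leaf (0, 29, 188)) (.leaf (0, 29, 545)))))) (.node 8 (.node 4 (.node 2 (.node 1 (.leaf (0, 30, 171)) (.leaf (0, 14, 226))) (.node 1 (.leaf (0, 1, 631)) (.leaf (0, 17, 141)))) (.node 2 (.node 1 (.leaf (0, 29, 441)) (.leaf (0, 14, 413))) (.node 1 (.leaf (0, 13, 530)) (.leaf (0, 9, 85))))) (.node 4 (.node 2 (.node 1 (.leaf (0, 22, 488)) (.leaf (0, 1, 171))) (.node 1 (.leaf (0, 1, 589)) (.leaf (0, 10, 413))))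 (.node 2 (.node 1 (.leaf (0, 1, 335)) (.leaf (0, 22, 73))) (.node 1 (.leaf (0, 22, 226)) (.leaf (0, 17, 1)))))))

def cls4_13 : BT (ℕ × ℕ × ℕ) :=
  (.node 16 (.node 8 (.node 4 (.node 2 (.node 1 (.leaf (0, 6, 502)) (.leaf (0, 9, 23))) (.node 1 (.leaf (0, 17, 526)) (.leaf (0, 6, 456)))) (.node 2 (.node 1 (.leaf (0, 17, 171)) (.leaf (0, 3, 404))) (.node 1 (.leaf (0, 109, 23)) (.leaf (0, 1, 188))))) (.node 4 (.node 2 (.node 1 (.leaf (0, 109, 85)) (.leaf (0, 3, 262))) (.node 1 (.leaf (0, 22, 502)) (.leaf (0, 30, 602)))) (.node 2 (.node 1 (.leaf (0, 29, 98)) (.leaf (0, 22, 545))) (.node 1 (.leaf (0, 29, 488)) (.leaf (0, 3, 589)))))) (.node 8 (.node 4 (.node 2 (.node 1 (.leaf (0, 37, 262)) (.leaf (0, 13, 488))) (.node 1 (.leaf (0, 14, 562)) (.leaf (0, 6, 577)))) (.node 2 (.node 1 (.leaf (0, 29, 526)) (.leaf (0, 9, 526))) (.node 1 (.leaf (0, 22, 404))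 (.leaf (0, 6, 433))))) (.node 4 (.node 2 (.node 1 (.leaf (0, 22, 141)) (.leaf (0, 29, 536))) (.node 1 (.leaf (0, 29, 564)) (.leaf (0, 17, 542)))) (.node 2 (.node 1 (.leaf (0, 3, 488)) (.leaf (0, 14, 171))) (.node 1 (.leaf (0, 13, 188)) (.leaf (0, 3, 141)))))))

def cls4_14 : BT (ℕ × ℕ × ℕ) :=
  (.node 16 (.node 8 (.node 4 (.node 2 (.node 1 (.leaf (0, 37, 114)) (.leaf (0, 29, 632))) (.node 1 (.leaf (0, 0, 85)) (.leaf (0, 14, 497)))) (.node 2 (.node 1 (.leaf (0, 20, 73)) (.leaf (0, 1, 456))) (.node 1 (.leaf (0, 13, 198)) (.leaf (0, 3, 250))))) (.node 4 (.node 2 (.node 1 (.leaf (0, 3, 584)) (.leaf (0, 6, 441))) (.node 1 (.leaf (0, 1, 85)) (.leaf (0, 37, 352)))) (.node 2 (.node 1 (.leaf (0, 30, 191)) (.leaf (0, 1, 449))) (.node 1 (.leaf (0, 1, 632)) (.leaf (0, 14, 486)))))) (.node 8 (.node 4 (.node 2 (.node 1 (.leaf (0, 29, 486)) (.leaf (0, 17,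 456))) (.node 1 (.leaf (0, 29, 114)) (.leaf (0, 22, 570)))) (.node 2 (.node 1 (.leaf (0, 29, 433)) (.leaf (0, 1, 283))) (.node 1 (.leaf (0, 14, 536)) (.leaf (0, 9, 395))))) (.node 4 (.node 2 (.node 1 (.leaf (0, 20, 188)) (.leaf (0, 17, 229))) (.node 1 (.leaf (0, 1, 562)) (.leaf (0, 31, 1)))) (.node 2 (.node 1 (.leaf (0, 37, 171)) (.leaf (0, 13, 16))) (.node 1 (.leaf (0, 22, 433)) (.leaf (0, 30, 631)))))))

def cls4_15 : BT (ℕ × ℕ × ℕ) :=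
  (.node 16 (.node 8 (.node 4 (.node 2 (.node 1 (.leaf (0, 30, 554)) (.leaf (0, 9, 188))) (.node 1 (.leaf (0, 3, 538)) (.leaf (0, 22, 542)))) (.node 2 (.node 1 (.leaf (0, 31, 188)) (.leaf (0, 9, 335))) (.node 1 (.leaf (0, 9, 602)) (.leaf (0, 9, 562))))) (.node 4 (.node 2 (.node 1 (.leaf (0, 37, 1)) (.leaf (0, 3, 524))) (.node 1 (.leaf (0, 9, 162)) (.leaf (0, 13, 441)))) (.node 2 (.node 1 (.leaf (0, 22, 492)) (.leaf (0, 20, 1))) (.node 1 (.leaf (0, 9, 352)) (.leaf (0, 6, 141)))))) (.node 8 (.node 4 (.node 2 (.node 1 (.leaf (0, 30, 114)) (.leaf (0, 10, 314))) (.node 1 (.leaf (0, 13, 85)) (.leaf (0, 3, 632)))) (.node 2 (.node 1 (.leaf (0, 14, 538)) (.leaf (0, 3, 433))) (.node 1 (.leaf (0, 1, 539)) (.leaf (0, 14, 530))))) (.node 4 (.node 2 (.node 1 (.leaf (0, 9, 456)) (.leaf (0, 1, 314))) (.node 1 (.leaf (0, 22, 262)) (.leaf (0, 29, 218)))) (.node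 2 (.node 1 (.leaf (0, 14, 433)) (.leaf (0, 6, 162))) (.node 1 (.leaf (0, 14, 488)) (.leaf (0, 30, 433)))))))

def cls4_16 : BT (ℕ × ℕ × ℕ) :=
  (.node 16 (.node 8 (.node 4 (.node 2 (.node 1 (.leaf (0, 17, 162)) (.leaf (0, 17, 404))) (.node 1 (.leaf (0, 29, 198)) (.leaf (0, 6, 191)))) (.node 2 (.node 1 (.leaf (0, 20, 250)) (.leaf (0, 9, 191))) (.node 1 (.leaf (0, 9, 198)) (.leaf (0, 6, 16))))) (.node 4 (.node 2 (.node 1 (.leaf (0, 14, 368)) (.leaf (0, 30, 492))) (.node 1 (.leaf (0, 24, 188)) (.leaf (0, 3, 215)))) (.node 2 (.node 1 (.leaf (0, 14, 589)) (.leaf (0, 1, 16))) (.node 1 (.leaf (0, 29, 335)) (.leaf (0, 29, 602)))))) (.node 8 (.node 4 (.node 2 (.node 1 (.leaf (0, 3, 441)) (.leaf (0, 6, 570))) (.node 1 (.leaf (0, 9, 141)) (.leaf (0, 24, 1)))) (.node 2 (.node 1 (.leaf (0, 9, 600)) (.leaf (0, 29, 23))) (.node 1 (.leaf (0, 30, 262)) (.leaf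 (0, 1, 486))))) (.node 4 (.node 2 (.node 1 (.leaf (0, 1, 488)) (.leaf (0, 30, 296))) (.node 1 (.leaf (0, 30, 542)) (.leaf (0, 13, 262)))) (.node 2 (.node 1 (.leaf (0, 9, 215)) (.leaf (0, 30, 404))) (.node 1 (.leaf (0, 3, 554)) (.leaf (0, 6, 218)))))))

def cls4_17 : BT (ℕ × ℕ × ℕ) :=
  (.node 16 (.node 8 (.node 4 (.node 2 (.node 1 (.leaf (0, 13, 23)) (.leaf (0, 1, 262))) (.node 1 (.leaf (0, 9, 171)) (.leaf (0, 13, 141)))) (.node 2 (.node 1 (.leaf (0, 30, 488)) (.leaf (0, 22, 171))) (.node 1 (.leaf (0, 20, 283)) (.leaf (0, 9, 492))))) (.node 4 (.node 2 (.node 1 (.leaf (0, 10, 23)) (.leaf (0, 24, 486))) (.node 1 (.leaf (0, 9, 404)) (.leaf (0, 30, 250)))) (.node 2 (.node 1 (.leaf (0, 30, 198)) (.leaf (6, 557, 0))) (.node 1 (.leaf (0, 10, 162)) (.leaf (0, 14, 335)))))) (.node 8 (.node 4 (.node 2 (.node 1 (.leaf (0, 6, 449)) (.leaf (0, 17, 250)))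 (.node 1 (.leaf (0, 3, 98)) (.leaf (0, 17, 215)))) (.node 2 (.node 1 (.leaf (0, 30, 1)) (.leaf (0, 24, 433))) (.node 1 (.leaf (0, 30, 98)) (.leaf (0, 109, 198))))) (.node 4 (.node 2 (.node 1 (.leaf (0, 6, 564)) (.leaf (0, 3, 226))) (.node 1 (.leaf (0, 6, 98)) (.leaf (0, 14, 215)))) (.node 2 (.node 1 (.leaf (0, 17, 433)) (.leaf (0, 6, 589))) (.node 1 (.leaf (0, 29, 631)) (.leaf (0, 3, 1)))))))

def cls4_18 : BT (ℕ × ℕ × ℕ) :=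
  (.node 16 (.node 8 (.node 4 (.node 2 (.node 1 (.leaf (0, 29, 530)) (.leaf (0, 1, 433))) (.node 1 (.leaf (0, 3, 526)) (.leaf (0, 10, 1)))) (.node 2 (.node 1 (.leaf (0, 9, 250)) (.leaf (0, 9, 433))) (.node 1 (.leaf (0, 10, 16)) (.leaf (0, 31, 23))))) (.node 4 (.node 2 (.node 1 (.leaf (0, 30, 16)) (.leaf (0, 1, 395))) (.node 1 (.leaf (0, 3, 335)) (.leaf (0, 14, 141)))) (.node 2 (.node 1 (.leaf (0, 14, 545)) (.leaf (0, 6, 584))) (.node 1 (.leaf (0, 3, 23)) (.leaf (0, 6, 19)))))) (.node 8 (.node 4 (.node 2 (.node 1 (.leaf (0, 22, 229)) (.leaf (0, 9, 16))) (.node 1 (.leaf (0, 20, 23)) (.leaf (0, 30, 589)))) (.node 2 (.node 1 (.leaf (0, 22, 497)) (.leaf (0, 9, 497))) (.node 1 (.leaf (0, 22, 218)) (.leaf (0, 14, 250))))) (.node 4 (.node 2 (.node 1 (.leaf (0, 10, 226)) (.leaf (0, 10, 98))) (.node 1 (.leaf (0, 14, 73)) (.leaf (0, 17, 488)))) (.node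 2 (.node 1 (.leaf (0, 1, 1)) (.leaf (0, 6, 562))) (.node 1 (.leaf (0, 30, 524)) (.leaf (0, 30, 141)))))))

def cls4_19 : BT (ℕ × ℕ × ℕ) :=
  (.node 16 (.node 8 (.node 4 (.node 2 (.node 1 (.leaf (0, 3, 259)) (.leaf (0, 3, 530))) (.node 1 (.leaf (0, 9, 538)) (.leaf (0, 1, 600)))) (.node 2 (.node 1 (.leaf (0, 14, 296)) (.leaf (0, 6, 171))) (.node 1 (.leaf (0, 17, 352)) (.leaf (0, 6, 488))))) (.node 4 (.node 2 (.node 1 (.leaf (0, 29, 600)) (.leaf (0, 14, 16))) (.node 1 (.leaf (0, 22, 1)) (.leaf (0, 9, 413)))) (.node 2 (.node 1 (.leaf (0, 22, 352)) (.leaf (0, 14, 542))) (.node 1 (.leaf (0, 37, 226)) (.leaf (0, 20, 524)))))) (.node 8 (.node 4 (.node 2 (.node 1 (.leaf (0, 9, 530)) (.leaf (0, 22, 441))) (.node 1 (.leaf (0, 1, 554)) (.leaf (0, 109, 73)))) (.node 2 (.node 1 (.leaf (0, 3, 395)) (.leaf (0, 10, 441))) (.node 1 (.leaf (0, 17, 524)) (.leaf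 (0, 30, 526))))) (.node 4 (.node 2 (.node 1 (.leaf (0, 6, 554)) (.leaf (0, 9, 314))) (.node 1 (.leaf (0, 0, 1)) (.leaf (0, 10, 114)))) (.node 2 (.node 1 (.leaf (0, 30, 283)) (.leaf (0, 6, 1))) (.node 1 (.leaf (0, 30, 449)) (.leaf (0, 6, 229)))))))

def cls4_20 : BT (ℕ × ℕ × ℕ) :=
  (.node 10 (.node 5 (.node 2 (.node 1 (.leaf (0, 24, 162)) (.leaf (0, 1, 23))) (.node 1 (.leaf (0, 22, 632)) (.node 1 (.leaf (0, 13, 191)) (.leaf (0, 22, 530))))) (.node 2 (.node 1 (.leaf (0, 109, 19)) (.leaf (0, 6, 73))) (.node 1 (.leaf (0, 9, 1)) (.node 1 (.leaf (0, 3, 502)) (.leaf (0, 9, 229)))))) (.node 5 (.node 2 (.node 1 (.leaf (0, 14, 456)) (.leaf (0, 9, 368))) (.node 1 (.leaf (0, 3, 73)) (.node 1 (.leaf (0, 3, 283)) (.leaf (0, 3, 449))))) (.node 2 (.node 1 (.leaf (0, 24, 250)) (.leaf (0, 1, 259))) (.node 1 (.leaf (0, 3, 85)) (.node 1 (.leaf (0, 29, 570)) (.leaf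 (0, 3, 19)))))))

/-- Table `cls4`. -/
def cls4 : BT (ℕ × ℕ × ℕ) :=
  (.node 320 (.node 160 (.node 64 (.node 32 cls4_0 cls4_1) (.node 32 cls4_2 (.node 32 cls4_3 cls4_4))) (.node 64 (.node 32 cls4_5 cls4_6) (.node 32 cls4_7 (.node 32 cls4_8 cls4_9)))) (.node 160 (.node 64 (.node 32 cls4_10 cls4_11) (.node 32 cls4_12 (.node 32 cls4_13 cls4_14))) (.node 96 (.node 32 cls4_15 (.node 32 cls4_16 cls4_17)) (.node 32 cls4_18 (.node 32 cls4_19 cls4_20)))))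

def witTab : List (ℕ × ℕ × ℕ) :=
  [(1, 0, 0), (2, 0, 1), (3, 0, 2), (5, 0, 16), (6, 0, 60), (7, 1, 0), (10, 1, 11), (11, 0, 3), (15, 1, 5), (19, 1, 13)]

end CfsgLib.J1
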