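import Cfsg.Agent.J1.DataH
import Cfsg.Agent.J1.DataT
import Cfsg.Agent.J1.DataC

/-! Boolean predicates of the certificate for `J₁`; they are verified in `CheckH`, `CheckT`, `CheckC*`. -/

namespace CfsgLib.J1

/-- `i`-th element of the subgroup table. -/
def hT (i : ℕ) : M7 := hTab.get i

/-- `i`-th coset representative. -/
def tT (i : ℕ) : M7 := tTab.get i

/-- Inverse of the `i`-th coset representative. -/
def uT (i : ℕ) : M7 := uTab.get i

/-- `i`-th double coset representative. -/
def dT (c : ℕ) : M7 := tT (repTab.get c)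

/-- The generators of the subgroup. -/
def genH : ℕ → M7
  | 0 => mA
  | _ => mB

/-- The generators of `J₁`. -/
def genT : ℕ → M7
  | 0 => mX
  | _ => mY

/-- Reduced rows. -/
def wfB (A : M7) : Bool :=
  wfRowB A.r0 && wfRowB A.r1 && wfRowB A.r2 && wfRowB A.r3 && wfRowB A.r4 && wfRowB A.r5
    && wfRowB A.r6

/-- A key for a matrix. -/
def mkey (A : M7) : ℕ :=
  A.r0 + A.r1 * 1180591620717411303424 + A.r2 * 1180591620717411303424 ^ 2
    + A.r3 * 1180591620717411303424 ^ 3 + A.r4 * 1180591620717411303424 ^ 4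
    + A.r5 * 1180591620717411303424 ^ 5 + A.r6 * 1180591620717411303424 ^ 6

/-- Smallest image of the orbit list under a matrix. -/
def lmin (U : M7) : ℕ :=
  orbitList.foldr (fun w m => let y := red (lin w U); bif Nat.blt y m then y else m) (base ^ 7)

/-- Powers. -/
def pw : ℕ → M7 → M7
  | 0, _ => mOne
  | 1, A => A
  | n + 1, A => mul (pw n A) A

/-- Product of a list of subgroup elements attached to edges of the coset graph. -/
def prodW : List ℕ → M7
  | [] => mOne
  | e :: l => mul (hT (tAct.get e).2) (prodW l)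

/-- Checks on the subgroup table. -/
def chkH (i : ℕ) : Bool :=
  eqb (mul mA (hT i)) (hT (hNext.get i).1) && Nat.blt (hNext.get i).1 660 &&
  (eqb (mul mB (hT i)) (hT (hNext.get i).2) && Nat.blt (hNext.get i).2 660) &&
  wfB (hT i) && Nat.beq (hFind.search (mkey (hT i))) i &&
  (Nat.beq i 0 || (Nat.blt (hPar.get i).2 i && Nat.blt (hPar.get i).1 2 &&
    eqb (mul (genH (hPar.get i).1) (hT (hPar.get i).2)) (hT i)))

/-- Closure of the orbit list. -/
def chkO : Bool :=
  orbitList.all fun w => wfRowB w && orbitList.contains (red (lin w mA)) &&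
    orbitList.contains (red (lin w mB))

/-- Checks on the coset table. -/
def chkT (i : ℕ) : Bool :=
  wfB (tT i) && wfB (uT i) && eqb (mul (uT i) (tT i)) mOne &&
  Nat.beq (tFind.search (lmin (uT i))) i &&
  (Nat.beq i 0 || (Nat.blt (tPar.get i).2 i && Nat.blt (tPar.get i).1 2 &&
    eqb (mul (genT (tPar.get i).1) (tT (tPar.get i).2)) (tT i))) &&
  (Nat.blt (tDec.get i).1 660 && Nat.blt (tDec.get i).2.1 5 && Nat.blt (tDec.get i).2.2 660 &&
    eqb (mul (mul (hT (tDec.get i).1) (dT (tDec.get i).2.1)) (hT (tDec.get i).2.2)) (tT i))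

/-- Checks on the edges of the coset graph. -/
def chkA (e : ℕ) : Bool :=
  Nat.blt (tAct.get e).1 266 && Nat.blt (tAct.get e).2 660 &&
    eqb (mul (genT (e % 2)) (tT (e / 2))) (mul (tT (tAct.get e).1) (hT (tAct.get e).2))

/-- Exponents allowed in the order checks. -/
def okExp (n : ℕ) : Bool :=
  Nat.beq n 6 || Nat.beq n 7 || Nat.beq n 10 || Nat.beq n 11 || Nat.beq n 15 || Nat.beq n 19

/-- One entry of a class table: either an exponent, or a conjugation to an entry with one. -/
def chkC (c : ℕ) (tab : BT (ℕ × ℕ × ℕ)) (l : ℕ) : Bool :=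
  bif Nat.beq (tab.get l).1 0 then
    Nat.blt (tab.get l).2.1 660 && Nat.blt (tab.get l).2.2 660 &&
    okExp (tab.get (tab.get l).2.1).1 &&
    eqb (mul (mul (dT c) (hT l)) (hT (tab.get l).2.2))
      (mul (hT (tab.get l).2.2) (mul (dT c) (hT (tab.get l).2.1)))
  else okExp (tab.get l).1 && eqb (pw (tab.get l).1 (mul (dT c) (hT l))) mOne

/-- Miscellaneous small checks. -/
def chkMisc : Bool :=
  wfB mX && wfB mY && wfB mA && wfB mB && wfB mOne && eqb (hT 0) mOne && eqb (tT 0) mOne &&
  eqb (prodW wordA) mA && eqb (prodW wordB) mB &&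
  (wordA.all (fun e => Nat.blt e 532) && wordB.all (fun e => Nat.blt e 532)) &&
  allLt 5 (fun c => Nat.blt (repTab.get c) 266)

/-- The witnesses of the six maximal element orders. -/
def chkWit : Bool :=
  witTab.all fun w => Nat.blt w.2.1 5 && Nat.blt w.2.2 660 &&
    eqb (pw w.1 (mul (dT w.2.1) (hT w.2.2))) mOne &&
    allLt w.1 (fun k => Nat.beq k 0 || !eqb (pw k (mul (dT w.2.1) (hT w.2.2))) mOne)

end CfsgLib.J1
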