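import Cfsg.Agent.J1.Check

/-! Kernel verification of the class table of double coset 2. -/

namespace CfsgLib.J1

theorem chkC2_all : allLt 660 (chkC 2 cls2) = true := by decide +kernel

end CfsgLib.J1
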