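import Cfsg.Agent.J1.Check

/-! Kernel verification of the subgroup table. -/

namespace CfsgLib.J1

theorem chkH_all : allLt 660 chkH = true := by decide +kernel

theorem chkMisc_ok : chkMisc = true := by decide +kernel

theorem chkO_ok : chkO = true := by decide +kernel

theorem chkWit_ok : chkWit = true := by decide +kernel

end CfsgLib.J1
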