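import Cfsg.Agent.J1.Check

/-! Kernel verification of the coset table. -/

namespace CfsgLib.J1

theorem chkT_all : allLt 266 chkT = true := by decide +kernel

theorem chkA_all : allLt 532 chkA = true := by decide +kernel

end CfsgLib.J1
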