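import Cfsg.Agent.J1.CheckH
import Cfsg.Agent.J1.CheckT
import Cfsg.Prelude.Def_Spor_J1

/-!
# The order of `J₁`

`Cfsg.Spor.J1` is the disjoint union of 266 cosets `tG i * hG l` of a subgroup of order 660.
-/

namespace CfsgLib.J1

open Cfsg.Spor

/-- The matrices of elements of `J₁`. -/
def InJ (A : M7) : Prop := WF A ∧ ∃ g ∈ J1, (g : Matrix (Fin 7) (Fin 7) (ZMod 11)) = dec A

theorem wf_of_wfB {A : M7} (h : wfB A = true) : WF A := by
  simp only [wfB, Bool.and_eq_true] at h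
  obtain ⟨⟨⟨⟨⟨⟨h0, h1⟩, h2⟩, h3⟩, h4⟩, h5⟩, h6⟩ := h
  intro i
  match i with
  | 0 => exact wfRow_of_wfRowB h0
  | 1 => exact wfRow_of_wfRowB h1
  | 2 => exact wfRow_of_wfRowB h2
  | 3 => exact wfRow_of_wfRowB h3
  | 4 => exact wfRow_of_wfRowB h4
  | 5 => exact wfRow_of_wfRowB h5
  | 6 => exact wfRow_of_wfRowB h6

theorem miscFacts : WF mX ∧ WF mY ∧ WF mA ∧ WF mB ∧ WF mOne ∧ hT 0 = mOne ∧ tT 0 = mOne ∧
    prodW wordA = mA ∧ prodW wordB = mB ∧ (∀ e ∈ wordA, e < 532) ∧ (∀ e ∈ wordB, e < 532) ∧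
    ∀ c < 5, repTab.get c < 266 := by
  have h := chkMisc_ok
  simp only [chkMisc, Bool.and_eq_true] at h
  obtain ⟨⟨⟨⟨⟨⟨⟨⟨⟨⟨h1, h2⟩, h3⟩, h4⟩, h5⟩, h6⟩, h7⟩, h8⟩, h9⟩, h10, h11⟩, h12⟩ := h
  exact ⟨wf_of_wfB h1, wf_of_wfB h2, wf_of_wfB h3, wf_of_wfB h4, wf_of_wfB h5, eq_of_eqb h6,
    eq_of_eqb h7, eq_of_eqb h8, eq_of_eqb h9,
    fun e he => Nat.le_of_ble_eq_true (List.all_eq_true.1 h10 e he),
    fun e he => Nat.le_of_ble_eq_true (List.all_eq_true.1 h11 e he),
    fun c hc => Nat.le_of_ble_eq_true (allLt_spec h12 c hc)⟩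

theorem dec_mOne : dec mOne = 1 := by decide +kernel

theorem coe_jankoX : (jankoX : Matrix (Fin 7) (Fin 7) (ZMod 11)) = dec mX :=
  (show Cfsg.jankoMatrixX = dec mX by decide +kernel)

theorem coe_jankoY : (jankoY : Matrix (Fin 7) (Fin 7) (ZMod 11)) = dec mY :=
  (show Cfsg.jankoMatrixY = dec mY by decide +kernel)

theorem InJ.mul {A B : M7} (hA : InJ A) (hB : InJ B) : InJ (mul A B) := by
  obtain ⟨g, hg, hgA⟩ := hA.2
  obtain ⟨g', hg', hgB⟩ := hB.2
  exact ⟨wf_mul A B, g * g', mul_mem hg hg', by rw [Units.val_mul, hgA, hgB, dec_mul hA.1 hB.1]⟩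

theorem inJ_one : InJ mOne := ⟨miscFacts.2.2.2.2.1, 1, one_mem _, by simp [dec_mOne]⟩

theorem inJ_genT : ∀ n, InJ (genT n)
  | 0 => ⟨miscFacts.1, jankoX, Subgroup.subset_closure (Or.inl rfl), coe_jankoX⟩
  | _ + 1 => ⟨miscFacts.2.1, jankoY, Subgroup.subset_closure (Or.inr rfl), coe_jankoY⟩

theorem hFacts {i : ℕ} (hi : i < 660) :
    mul mA (hT i) = hT (hNext.get i).1 ∧ (hNext.get i).1 < 660 ∧
    mul mB (hT i) = hT (hNext.get i).2 ∧ (hNext.get i).2 < 660 ∧
    WF (hT i) ∧ hFind.search (mkey (hT i)) = i ∧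
    (i ≠ 0 → (hPar.get i).2 < i ∧ mul (genH (hPar.get i).1) (hT (hPar.get i).2) = hT i) := by
  have h := allLt_spec chkH_all i hi
  simp only [chkH, Bool.and_eq_true, Bool.or_eq_true] at h
  obtain ⟨⟨⟨⟨⟨h1, h2⟩, h3, h4⟩, h5⟩, h6⟩, h7⟩ := h
  refine ⟨eq_of_eqb h1, Nat.le_of_ble_eq_true h2, eq_of_eqb h3, Nat.le_of_ble_eq_true h4,
    wf_of_wfB h5, Nat.eq_of_beq_eq_true h6, fun hne => ?_⟩
  rcases h7 with h7 | ⟨⟨h8, -⟩, h10⟩
  · exact absurd (Nat.eq_of_beq_eq_true h7) hne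
  · exact ⟨Nat.le_of_ble_eq_true h8, eq_of_eqb h10⟩

theorem tFacts {i : ℕ} (hi : i < 266) :
    WF (tT i) ∧ WF (uT i) ∧ mul (uT i) (tT i) = mOne ∧ tFind.search (lmin (uT i)) = i ∧
    (i ≠ 0 → (tPar.get i).2 < i ∧ mul (genT (tPar.get i).1) (tT (tPar.get i).2) = tT i) ∧
    (tDec.get i).1 < 660 ∧ (tDec.get i).2.1 < 5 ∧ (tDec.get i).2.2 < 660 ∧
    mul (mul (hT (tDec.get i).1) (dT (tDec.get i).2.1)) (hT (tDec.get i).2.2) = tT i := by
  have h := allLt_spec chkT_all i hi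
  simp only [chkT, Bool.and_eq_true, Bool.or_eq_true] at h
  obtain ⟨⟨⟨⟨⟨h1, h2⟩, h3⟩, h4⟩, h5⟩, ⟨⟨h6, h7⟩, h8⟩, h9⟩ := h
  refine ⟨wf_of_wfB h1, wf_of_wfB h2, eq_of_eqb h3, Nat.eq_of_beq_eq_true h4, fun hne => ?_,
    Nat.le_of_ble_eq_true h6, Nat.le_of_ble_eq_true h7, Nat.le_of_ble_eq_true h8, eq_of_eqb h9⟩
  rcases h5 with h5 | ⟨⟨h8, -⟩, h10⟩
  · exact absurd (Nat.eq_of_beq_eq_true h5) hne
  · exact ⟨Nat.le_of_ble_eq_true h8, eq_of_eqb h10⟩

theorem aFacts {e : ℕ} (he : e < 532) : (tAct.get e).1 < 266 ∧ (tAct.get e).2 < 660 ∧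
    mul (genT (e % 2)) (tT (e / 2)) = mul (tT (tAct.get e).1) (hT (tAct.get e).2) := by
  have h := allLt_spec chkA_all e he
  simp only [chkA, Bool.and_eq_true] at h
  obtain ⟨⟨h1, h2⟩, h3⟩ := h
  exact ⟨Nat.le_of_ble_eq_true h1, Nat.le_of_ble_eq_true h2, eq_of_eqb h3⟩

theorem inJ_tT : ∀ i, i < 266 → InJ (tT i) := by
  intro i
  induction i using Nat.strong_induction_on with
  | _ i ih =>
    intro hi
    by_cases h0 : i = 0
    · rw [h0, miscFacts.2.2.2.2.2.2.1]; exact inJ_one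
    · obtain ⟨hlt, heq⟩ := (tFacts hi).2.2.2.2.1 h0
      rw [← heq]
      exact (inJ_genT _).mul (ih _ hlt (hlt.trans hi))

theorem inJ_edge {e : ℕ} (he : e < 532) : InJ (hT (tAct.get e).2) := by
  obtain ⟨hj, hk, heq⟩ := aFacts he
  obtain ⟨u, hu, hu'⟩ := (inJ_genT (e % 2)).2
  obtain ⟨v, hv, hv'⟩ := (inJ_tT (e / 2) (by omega)).2
  obtain ⟨w, hw, hw'⟩ := (inJ_tT _ hj).2
  refine ⟨(hFacts hk).2.2.2.2.1, w⁻¹ * (u * v), mul_mem (inv_mem hw) (mul_mem hu hv), ?_⟩
  rw [Units.val_mul, Units.val_mul, hu', hv', ← dec_mul (inJ_genT _).1 (inJ_tT _ (by omega)).1, heq,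
    dec_mul (inJ_tT _ hj).1 (hFacts hk).2.2.2.2.1, ← hw', ← mul_assoc, Units.inv_mul, one_mul]

theorem inJ_prodW : ∀ l : List ℕ, (∀ e ∈ l, e < 532) → InJ (prodW l)
  | [], _ => inJ_one
  | e :: l, h => (inJ_edge (h e (List.mem_cons_self ..))).mul
      (inJ_prodW l fun x hx => h x (List.mem_cons_of_mem _ hx))

theorem inJ_genH : ∀ n, InJ (genH n)
  | 0 => show InJ mA by
    rw [← miscFacts.2.2.2.2.2.2.2.1]; exact inJ_prodW _ miscFacts.2.2.2.2.2.2.2.2.2.1
  | _ + 1 => show InJ mB by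
    rw [← miscFacts.2.2.2.2.2.2.2.2.1]; exact inJ_prodW _ miscFacts.2.2.2.2.2.2.2.2.2.2.1

theorem inJ_hT : ∀ i, i < 660 → InJ (hT i) := by
  intro i
  induction i using Nat.strong_induction_on with
  | _ i ih =>
    intro hi
    by_cases h0 : i = 0
    · rw [h0, miscFacts.2.2.2.2.2.1]; exact inJ_one
    · obtain ⟨hlt, heq⟩ := (hFacts hi).2.2.2.2.2.2 h0
      rw [← heq]
      exact (inJ_genH _).mul (ih _ hlt (hlt.trans hi))

/-- The subgroup of order 660 is closed under multiplication. -/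
theorem hT_mul : ∀ i, i < 660 → ∀ j, j < 660 → ∃ k < 660, mul (hT i) (hT j) = hT k := by
  intro i
  induction i using Nat.strong_induction_on with
  | _ i ih =>
    intro hi j hj
    by_cases h0 : i = 0
    · refine ⟨j, hj, ?_⟩
      rw [h0, miscFacts.2.2.2.2.2.1]
      refine eq_of_dec (wf_mul _ _) (hFacts hj).2.2.2.2.1 ?_
      rw [dec_mul inJ_one.1 (hFacts hj).2.2.2.2.1, dec_mOne, one_mul]
    · obtain ⟨hlt, heq⟩ := (hFacts hi).2.2.2.2.2.2 h0
      obtain ⟨k, hk, hk'⟩ := ih _ hlt (hlt.trans hi) j hj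
      have hwi := (inJ_hT _ (hlt.trans hi)).1
      have hwj := (inJ_hT _ hj).1
      have hwg := (inJ_genH (hPar.get i).1).1
      have key : mul (hT i) (hT j) = mul (genH (hPar.get i).1) (hT k) := by
        refine eq_of_dec (wf_mul _ _) (wf_mul _ _) ?_
        rw [dec_mul (inJ_hT _ hi).1 hwj, ← heq, dec_mul hwg hwi, dec_mul hwg (inJ_hT _ hk).1, ← hk',
          dec_mul hwi hwj, mul_assoc]
      rcases hn : (hPar.get i).1 with _ | n
      · exact ⟨_, (hFacts hk).2.1, by rw [key, hn]; exact (hFacts hk).1⟩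
      · exact ⟨_, (hFacts hk).2.2.2.1, by rw [key, hn]; exact (hFacts hk).2.2.1⟩
where
  eq_of_dec {A B : M7} (hA : WF A) (hB : WF B) (h : dec A = dec B) : A = B := by
    have hr : ∀ i, row A i = row B i := fun i => by
      rw [← pack_slot (hA i).1, ← pack_slot (hB i).1]
      refine Finset.sum_congr rfl fun j _ => ?_
      have := congrFun (congrFun h i) j
      simp only [dec] at this
      rw [ZMod.natCast_eq_natCast_iff', Nat.mod_eq_of_lt ((hA i).2 j),
        Nat.mod_eq_of_lt ((hB i).2 j)] at this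
      rw [this]
    cases A; cases B
    simpa [row] using And.intro (hr 0) (And.intro (hr 1) (And.intro (hr 2) (And.intro (hr 3)
      (And.intro (hr 4) (And.intro (hr 5) (hr 6))))))

/-- The element of the subgroup with index `l`. -/
noncomputable def hG (l : Fin 660) : GL (Fin 7) (ZMod 11) := (inJ_hT l l.2).2.choose

/-- The representative of the coset with index `i`. -/
noncomputable def tG (i : Fin 266) : GL (Fin 7) (ZMod 11) := (inJ_tT i i.2).2.choose

theorem hG_mem (l : Fin 660) : hG l ∈ J1 := (inJ_hT l l.2).2.choose_spec.1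

theorem tG_mem (i : Fin 266) : tG i ∈ J1 := (inJ_tT i i.2).2.choose_spec.1

theorem coe_hG (l : Fin 660) : (hG l : Matrix (Fin 7) (Fin 7) (ZMod 11)) = dec (hT l) :=
  (inJ_hT l l.2).2.choose_spec.2

theorem coe_tG (i : Fin 266) : (tG i : Matrix (Fin 7) (Fin 7) (ZMod 11)) = dec (tT i) :=
  (inJ_tT i i.2).2.choose_spec.2

theorem hG_zero : hG 0 = 1 := Units.ext (by
  rw [coe_hG, Units.val_one, ← dec_mOne]
  exact congrArg dec miscFacts.2.2.2.2.2.1)

theorem tG_zero : tG 0 = 1 := Units.ext (by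
  rw [coe_tG, Units.val_one, ← dec_mOne]
  exact congrArg dec miscFacts.2.2.2.2.2.2.1)

theorem hG_mul (i j : Fin 660) : ∃ k, hG i * hG j = hG k := by
  obtain ⟨k, hk, hk'⟩ := hT_mul i i.2 j j.2
  refine ⟨⟨k, hk⟩, Units.ext ?_⟩
  rw [Units.val_mul, coe_hG, coe_hG, coe_hG, ← dec_mul (inJ_hT _ i.2).1 (inJ_hT _ j.2).1, hk']

theorem gen_step (g : GL (Fin 7) (ZMod 11)) (n : ℕ) (hn : n < 2)
    (hg : (g : Matrix (Fin 7) (Fin 7) (ZMod 11)) = dec (genT n)) (i : Fin 266) (l : Fin 660) :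
    ∃ j k, g * (tG i * hG l) = tG j * hG k := by
  have he : 2 * (i : ℕ) + n < 532 := by omega
  obtain ⟨hj, hk, heq⟩ := aFacts he
  rw [show (2 * (i : ℕ) + n) % 2 = n by omega, show (2 * (i : ℕ) + n) / 2 = (i : ℕ) by omega] at heq
  obtain ⟨k, hk'⟩ := hG_mul ⟨_, hk⟩ l
  refine ⟨⟨_, hj⟩, k, ?_⟩
  rw [← hk', ← mul_assoc, ← mul_assoc]
  congr 1
  refine Units.ext ?_
  rw [Units.val_mul, Units.val_mul, hg, coe_tG, coe_tG, coe_hG,
    ← dec_mul (inJ_genT n).1 (inJ_tT _ i.2).1, ← dec_mul (inJ_tT _ hj).1 (inJ_hT _ hk).1, heq]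

/-- Every element of `J₁` is a representative times an element of the subgroup. -/
theorem exists_eq_tG_mul_hG {g : GL (Fin 7) (ZMod 11)} (hg : g ∈ J1) :
    ∃ i l, g = tG i * hG l := by
  rw [J1, ← Subgroup.mem_toSubmonoid, Subgroup.closure_toSubmonoid_of_finite] at hg
  induction hg using Submonoid.closure_induction_left with
  | one => exact ⟨0, 0, by rw [tG_zero, hG_zero, one_mul]⟩
  | mul_left x hx y _ ih =>
    obtain ⟨i, l, rfl⟩ := ih
    rcases hx with rfl | rfl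
    · exact gen_step jankoX 0 (by norm_num) coe_jankoX i l
    · exact gen_step jankoY 1 (by norm_num) coe_jankoY i l

theorem hG_injective : Function.Injective hG := by
  intro i j h
  have h' : hT i = hT j := hT_mul.eq_of_dec (inJ_hT _ i.2).1 (inJ_hT _ j.2).1
    (by rw [← coe_hG, ← coe_hG, h])
  have hi := (hFacts i.2).2.2.2.2.2.1
  have hj := (hFacts j.2).2.2.2.2.2.1
  rw [h', hj] at hi
  exact Fin.ext hi.symm

theorem hG_inv (i : Fin 660) : ∃ k, hG k * hG i = 1 := by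
  have hsurj : Function.Surjective fun k => (hG_mul k i).choose :=
    Finite.injective_iff_surjective.1 fun a b hab => hG_injective (by
      have ha := (hG_mul a i).choose_spec
      have hb := (hG_mul b i).choose_spec
      have hab' : (hG_mul a i).choose = (hG_mul b i).choose := hab
      rw [hab', ← hb] at ha
      exact mul_right_cancel ha)
  obtain ⟨k, hk⟩ := hsurj 0
  exact ⟨k, by rw [(hG_mul k i).choose_spec]; simp only at hk; rw [hk, hG_zero]⟩

/-- The images of the packed orbit vectors under `U`. -/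
def imageOrbit (U : M7) : List ℕ := orbitList.map fun w => red (lin w U)

theorem lin_red_lin {w : ℕ} (hw : wfRow w) {A B : M7} (hA : WF A) (hB : WF B) :
    red (lin w (mul A B)) = red (lin (red (lin w A)) B) := by
  let W : M7 := ⟨w, w, w, w, w, w, w⟩
  have hW : WF W := fun i => by
    match i with
    | 0 => exact hw
    | 1 => exact hw
    | 2 => exact hw
    | 3 => exact hw
    | 4 => exact hw
    | 5 => exact hw
    | 6 => exact hw
  have h : mul W (mul A B) = mul (mul W A) B :=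
    hT_mul.eq_of_dec (wf_mul _ _) (wf_mul _ _) (by
      rw [dec_mul hW (wf_mul A B), dec_mul hA hB, dec_mul (wf_mul W A) hB, dec_mul hW hA, mul_assoc])
  exact congrArg M7.r0 h

theorem orbit_hT : ∀ i, i < 660 → ∀ w ∈ orbitList, wfRow w ∧ red (lin w (hT i)) ∈ orbitList := by
  have hO : ∀ w ∈ orbitList, wfRow w ∧ red (lin w mA) ∈ orbitList ∧
      red (lin w mB) ∈ orbitList := by
    intro w hw
    have h := List.all_eq_true.1 chkO_ok w hw
    simp only [Bool.and_eq_true, List.contains_iff_mem] at h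
    exact ⟨wfRow_of_wfRowB h.1.1, h.1.2, h.2⟩
  intro i
  induction i using Nat.strong_induction_on with
  | _ i ih =>
    intro hi w hw
    refine ⟨(hO w hw).1, ?_⟩
    by_cases h0 : i = 0
    · rw [h0, miscFacts.2.2.2.2.2.1]
      let W : M7 := ⟨w, w, w, w, w, w, w⟩
      have hW : WF W := fun i => by
        match i with
        | 0 => exact (hO w hw).1
        | 1 => exact (hO w hw).1
        | 2 => exact (hO w hw).1
        | 3 => exact (hO w hw).1
        | 4 => exact (hO w hw).1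
        | 5 => exact (hO w hw).1
        | 6 => exact (hO w hw).1
      have h : mul W mOne = W := hT_mul.eq_of_dec (wf_mul _ _) hW
        (by rw [dec_mul hW inJ_one.1, dec_mOne, mul_one])
      rw [show red (lin w mOne) = w from congrArg M7.r0 h]
      exact hw
    · obtain ⟨hlt, heq⟩ := (hFacts hi).2.2.2.2.2.2 h0
      rw [← heq, lin_red_lin (hO w hw).1 (inJ_genH _).1 (inJ_hT _ (hlt.trans hi)).1]
      refine (ih _ hlt (hlt.trans hi) _ ?_).2
      rcases (hPar.get i).1 with _ | n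
      · exact (hO w hw).2.1
      · exact (hO w hw).2.2

theorem foldr_min_spec (f : ℕ → ℕ) (d : ℕ) : ∀ l : List ℕ,
    (l.foldr (fun w m => bif Nat.blt (f w) m then f w else m) d) ≤ d ∧
    (∀ w ∈ l, (l.foldr (fun w m => bif Nat.blt (f w) m then f w else m) d) ≤ f w) ∧
    ((l.foldr (fun w m => bif Nat.blt (f w) m then f w else m) d) = d ∨
      ∃ w ∈ l, (l.foldr (fun w m => bif Nat.blt (f w) m then f w else m) d) = f w) := by
  intro l
  induction l with
  | nil => simp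
  | cons a l ih =>
    obtain ⟨h1, h2, h3⟩ := ih
    simp only [List.foldr_cons]
    cases h : Nat.blt (f a) (l.foldr (fun w m => bif Nat.blt (f w) m then f w else m) d)
    · have h' : ¬ f a < l.foldr (fun w m => bif Nat.blt (f w) m then f w else m) d := by
        intro hlt
        have h2 : Nat.blt (f a) (l.foldr (fun w m => bif Nat.blt (f w) m then f w else m) d) = true :=
          Nat.ble_eq_true_of_le hlt
        rw [h] at h2
        exact Bool.noConfusion h2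
      simp only [cond_false]
      refine ⟨h1, fun w hw => ?_, ?_⟩
      · rcases List.mem_cons.1 hw with rfl | hw
        · omega
        · exact h2 w hw
      · rcases h3 with h3 | ⟨w, hw, h3⟩
        · exact Or.inl h3
        · exact Or.inr ⟨w, List.mem_cons_of_mem _ hw, h3⟩
    · have h' := Nat.le_of_ble_eq_true h
      simp only [cond_true]
      refine ⟨by omega, fun w hw => ?_, Or.inr ⟨a, List.mem_cons_self .., rfl⟩⟩
      rcases List.mem_cons.1 hw with rfl | hw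
      · exact le_rfl
      · have := h2 w hw
        omega

theorem lmin_le {i j : Fin 266} {l : Fin 660} (h : tG j = tG i * hG l) :
    lmin (uT j) ≥ lmin (uT i) := by
  obtain ⟨hti, hui, hut, -⟩ := tFacts i.2
  obtain ⟨htj, huj, hutj, -⟩ := tFacts j.2
  obtain ⟨k, hk⟩ := hG_inv l
  have hU : ∀ (i : Fin 266), ((tG i)⁻¹ : GL (Fin 7) (ZMod 11)) = (dec (uT i) : Matrix _ _ _) := by
    intro i
    obtain ⟨hti, hui, hut, -⟩ := tFacts i.2
    refine (Units.eq_inv_of_mul_eq_one_left ?_).symm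
    rw [coe_tG, mul_eq_one_comm, ← dec_mul hui hti, hut, dec_mOne]
  have hmat : uT j = mul (hT k) (uT i) := by
    refine hT_mul.eq_of_dec huj (wf_mul _ _) ?_
    rw [dec_mul (inJ_hT _ k.2).1 hui, ← hU, ← hU, ← coe_hG, ← Units.val_mul]
    congr 1
    rw [h, mul_inv_rev, show (hG l)⁻¹ = hG k from inv_eq_of_mul_eq_one_left hk]
  obtain ⟨hd, hle, hatt⟩ := foldr_min_spec (fun w => red (lin w (uT j))) (base ^ 7) orbitList
  obtain ⟨hd', hle', -⟩ := foldr_min_spec (fun w => red (lin w (uT i))) (base ^ 7) orbitList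
  show lmin (uT i) ≤ lmin (uT j)
  rcases hatt with h1 | ⟨w, hw, h1⟩
  · exact le_trans hd' (le_of_eq h1.symm)
  · refine le_trans ?_ (le_of_eq h1.symm)
    rw [hmat, lin_red_lin (orbit_hT _ k.2 w hw).1 (inJ_hT _ k.2).1 hui]
    exact hle' _ (orbit_hT _ k.2 w hw).2

/-- The coset decomposition of `J₁`. -/
theorem bijective_tG_mul_hG : Function.Bijective fun x : Fin 266 × Fin 660 =>
    (⟨tG x.1 * hG x.2, mul_mem (tG_mem _) (hG_mem _)⟩ : J1) := by
  refine ⟨fun ⟨i, l⟩ ⟨j, l'⟩ h => ?_, fun ⟨g, hg⟩ => ?_⟩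
  · have h' : tG i * hG l = tG j * hG l' := congrArg Subtype.val h
    obtain ⟨k, hk⟩ := hG_inv l
    obtain ⟨k', hk'⟩ := hG_inv l'
    obtain ⟨m, hm⟩ := hG_mul l k'
    obtain ⟨m', hm'⟩ := hG_mul l' k
    have hr : ∀ {a b : Fin 660}, hG a * hG b = 1 → hG b * hG a = 1 := fun h => by
      rw [mul_eq_one_comm]; exact h
    have e1 : tG j = tG i * hG m := by
      rw [← hm, ← mul_assoc, h', mul_assoc, hr hk', mul_one]
    have e2 : tG i = tG j * hG m' := by
      rw [← hm', ← mul_assoc, ← h', mul_assoc, hr hk, mul_one]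
    have hij : i = j := by
      have := le_antisymm (lmin_le e1) (lmin_le e2)
      have hi := (tFacts i.2).2.2.2.1
      have hj := (tFacts j.2).2.2.2.1
      rw [this, hj] at hi
      exact Fin.ext hi.symm
    subst hij
    exact Prod.ext rfl (hG_injective (mul_left_cancel h'))
  · obtain ⟨i, l, rfl⟩ := exists_eq_tG_mul_hG hg
    exact ⟨(i, l), rfl⟩

/-- `|J₁| = 175560`. -/
theorem card_J1 : Nat.card J1 = 175560 := by
  rw [← Nat.card_congr (Equiv.ofBijective _ bijective_tG_mul_hG)]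
  simp

end CfsgLib.J1
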