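import Mathlib

/-!
# Packed 7 × 7 matrices modulo 11

A row is one natural number with entries in base 1024, so that a row times a matrix is seven
multiplications without carries; used for kernel-checked certificates about `J₁`.
-/

namespace CfsgLib.J1

/-- A matrix given by seven packed rows. -/
structure M7 where
  r0 : ℕ
  r1 : ℕ
  r2 : ℕ
  r3 : ℕ
  r4 : ℕ
  r5 : ℕ
  r6 : ℕ

/-- The base `1024`. -/
abbrev base : ℕ := 1024

/-- Row times matrix, before reduction. -/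
def lin (r : ℕ) (B : M7) : ℕ :=
  r % 1024 * B.r0 + r / 1024 % 1024 * B.r1 + r / 1048576 % 1024 * B.r2
    + r / 1073741824 % 1024 * B.r3 + r / 1099511627776 % 1024 * B.r4
    + r / 1125899906842624 % 1024 * B.r5 + r / 1152921504606846976 % 1024 * B.r6

/-- Reduce each entry modulo 11. -/
def red (c : ℕ) : ℕ :=
  c % 1024 % 11 + c / 1024 % 1024 % 11 * 1024 + c / 1048576 % 1024 % 11 * 1048576
    + c / 1073741824 % 1024 % 11 * 1073741824 + c / 1099511627776 % 1024 % 11 * 1099511627776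
    + c / 1125899906842624 % 1024 % 11 * 1125899906842624
    + c / 1152921504606846976 % 1024 % 11 * 1152921504606846976

/-- The product. -/
def mul (A B : M7) : M7 :=
  ⟨red (lin A.r0 B), red (lin A.r1 B), red (lin A.r2 B), red (lin A.r3 B), red (lin A.r4 B),
    red (lin A.r5 B), red (lin A.r6 B)⟩

/-- Boolean equality. -/
def eqb (A B : M7) : Bool :=
  Nat.beq A.r0 B.r0 && Nat.beq A.r1 B.r1 && Nat.beq A.r2 B.r2 && Nat.beq A.r3 B.r3
    && Nat.beq A.r4 B.r4 && Nat.beq A.r5 B.r5 && Nat.beq A.r6 B.r6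

/-- The `i`-th row. -/
def row (A : M7) : Fin 7 → ℕ
  | 0 => A.r0
  | 1 => A.r1
  | 2 => A.r2
  | 3 => A.r3
  | 4 => A.r4
  | 5 => A.r5
  | 6 => A.r6

/-- The `j`-th entry of a packed row. -/
def slot (r : ℕ) (j : Fin 7) : ℕ := r / base ^ (j : ℕ) % base

/-- The matrix that is encoded. -/
def dec (A : M7) : Matrix (Fin 7) (Fin 7) (ZMod 11) := fun i j => (slot (row A i) j : ZMod 11)

/-- A reduced packed row. -/
def wfRow (r : ℕ) : Prop := r < base ^ 7 ∧ ∀ j, slot r j < 11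

/-- A reduced packed matrix. -/
def WF (A : M7) : Prop := ∀ i, wfRow (row A i)

/-- Boolean test for `wfRow`. -/
def wfRowB (r : ℕ) : Bool := Nat.beq (red r) r

theorem horner (c : Fin 7 → ℕ) : ∑ k, c k * base ^ (k : ℕ) =
    c 0 + base * (c 1 + base * (c 2 + base * (c 3 + base * (c 4 + base * (c 5 + base * c 6))))) := by
  rw [Fin.sum_univ_seven]
  simp only [Fin.val_one, Fin.val_two, Fin.coe_ofNat_eq_mod, Nat.one_mod, Nat.zero_mod,
    Nat.reduceMod]
  ring

theorem slot_pack (c : Fin 7 → ℕ) (hc : ∀ j, c j < base) (j : Fin 7) :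
    slot (∑ k, c k * base ^ (k : ℕ)) j = c j := by
  have hd : ∀ a R : ℕ, a < base → (a + base * R) / base = R := fun a R ha => by
    rw [Nat.add_mul_div_left _ _ (by norm_num : 0 < base), Nat.div_eq_of_lt ha, zero_add]
  have hm : ∀ a R : ℕ, a < base → (a + base * R) % base = a := fun a R ha => by
    rw [Nat.add_mul_mod_self_left, Nat.mod_eq_of_lt ha]
  rw [horner, slot]
  fin_cases j
  · rw [show ((⟨0, by norm_num⟩ : Fin 7) : ℕ) = 0 from rfl, pow_zero, Nat.div_one, hm _ _ (hc 0)]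
    rfl
  · rw [show ((⟨1, by norm_num⟩ : Fin 7) : ℕ) = 1 from rfl, pow_one, hd _ _ (hc 0), hm _ _ (hc 1)]
    rfl
  · rw [show ((⟨2, by norm_num⟩ : Fin 7) : ℕ) = 2 from rfl, pow_two, ← Nat.div_div_eq_div_mul,
      hd _ _ (hc 0), hd _ _ (hc 1), hm _ _ (hc 2)]
    rfl
  · rw [show ((⟨3, by norm_num⟩ : Fin 7) : ℕ) = 3 from rfl, pow_succ', pow_two,
      ← Nat.div_div_eq_div_mul, ← Nat.div_div_eq_div_mul, hd _ _ (hc 0), hd _ _ (hc 1),
      hd _ _ (hc 2), hm _ _ (hc 3)]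
    rfl
  · rw [show ((⟨4, by norm_num⟩ : Fin 7) : ℕ) = 4 from rfl, pow_succ', pow_succ', pow_two,
      ← Nat.div_div_eq_div_mul, ← Nat.div_div_eq_div_mul, ← Nat.div_div_eq_div_mul,
      hd _ _ (hc 0), hd _ _ (hc 1), hd _ _ (hc 2), hd _ _ (hc 3), hm _ _ (hc 4)]
    rfl
  · rw [show ((⟨5, by norm_num⟩ : Fin 7) : ℕ) = 5 from rfl, pow_succ', pow_succ', pow_succ',
      pow_two, ← Nat.div_div_eq_div_mul, ← Nat.div_div_eq_div_mul, ← Nat.div_div_eq_div_mul,
      ← Nat.div_div_eq_div_mul, hd _ _ (hc 0), hd _ _ (hc 1), hd _ _ (hc 2), hd _ _ (hc 3),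
      hd _ _ (hc 4), hm _ _ (hc 5)]
    rfl
  · rw [show ((⟨6, by norm_num⟩ : Fin 7) : ℕ) = 6 from rfl, pow_succ', pow_succ', pow_succ',
      pow_succ', pow_two, ← Nat.div_div_eq_div_mul, ← Nat.div_div_eq_div_mul,
      ← Nat.div_div_eq_div_mul, ← Nat.div_div_eq_div_mul, ← Nat.div_div_eq_div_mul,
      hd _ _ (hc 0), hd _ _ (hc 1), hd _ _ (hc 2), hd _ _ (hc 3),
      hd _ _ (hc 4), hd _ _ (hc 5)]
    exact Nat.mod_eq_of_lt (hc 6)

theorem pack_slot {r : ℕ} (h : r < base ^ 7) : ∑ k : Fin 7, slot r k * base ^ (k : ℕ) = r := by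
  have hs : ∀ n : ℕ, r / base ^ n = r / base ^ n % base + base * (r / base ^ (n + 1)) := fun n => by
    rw [pow_succ, ← Nat.div_div_eq_div_mul, Nat.mod_add_div]
  have h7 : r / base ^ 7 = 0 := Nat.div_eq_of_lt h
  have h0 := hs 0; have h1 := hs 1; have h2 := hs 2; have h3 := hs 3
  have h4 := hs 4; have h5 := hs 5; have h6 := hs 6
  rw [horner]
  show r / base ^ 0 % base + base * (r / base ^ 1 % base + base * (r / base ^ 2 % base +
    base * (r / base ^ 3 % base + base * (r / base ^ 4 % base + base * (r / base ^ 5 % base +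
    base * (r / base ^ 6 % base)))))) = r
  rw [show (6 + 1 : ℕ) = 7 from rfl, h7, Nat.mul_zero, Nat.add_zero] at h6
  rw [← h6, ← h5, ← h4, ← h3, ← h2, ← h1, ← h0, pow_zero, Nat.div_one]

theorem red_eq (c : ℕ) : red c = ∑ k : Fin 7, slot c k % 11 * base ^ (k : ℕ) := by
  simp [red, slot, Fin.sum_univ_seven, base]

theorem slot_red (c : ℕ) (j : Fin 7) : slot (red c) j = slot c j % 11 := by
  rw [red_eq, slot_pack _ (fun k => lt_of_lt_of_le (Nat.mod_lt _ (by norm_num : 11 > 0)) (by norm_num : 11 ≤ base))]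

theorem wfRow_red (c : ℕ) : wfRow (red c) := by
  refine ⟨?_, fun j => by rw [slot_red]; exact Nat.mod_lt _ (by norm_num)⟩
  have : ∀ k, slot c k % 11 ≤ 10 := fun k => Nat.le_of_lt_succ (Nat.mod_lt _ (by norm_num))
  calc red c = ∑ k : Fin 7, slot c k % 11 * base ^ (k : ℕ) := red_eq c
    _ ≤ ∑ k : Fin 7, 10 * base ^ (k : ℕ) :=
      Finset.sum_le_sum fun k _ => Nat.mul_le_mul_right _ (this k)
    _ < base ^ 7 := by norm_num [Fin.sum_univ_seven, base]

theorem wfRow_of_wfRowB {r : ℕ} (h : wfRowB r = true) : wfRow r := by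
  have e : red r = r := Nat.eq_of_beq_eq_true h
  exact e ▸ wfRow_red r

section
attribute [local irreducible] red lin

theorem row_mul (A B : M7) : ∀ i : Fin 7, row (mul A B) i = red (lin (row A i) B)
  | 0 => rfl
  | 1 => rfl
  | 2 => rfl
  | 3 => rfl
  | 4 => rfl
  | 5 => rfl
  | 6 => rfl

end

theorem wf_mul (A B : M7) : WF (mul A B) := fun i => by
  rw [row_mul]
  exact wfRow_red _

theorem lin_eq (r : ℕ) (B : M7) : lin r B = ∑ k : Fin 7, slot r k * row B k := by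
  simp [lin, slot, row, Fin.sum_univ_seven, base]

theorem dec_mul {A B : M7} (hA : WF A) (hB : WF B) : dec (mul A B) = dec A * dec B := by
  ext i j
  rw [Matrix.mul_apply, dec, row_mul, slot_red, ZMod.natCast_mod]
  have h : lin (row A i) B =
      ∑ l : Fin 7, (∑ k : Fin 7, slot (row A i) k * slot (row B k) l) * base ^ (l : ℕ) := by
    rw [lin_eq]
    simp_rw [Finset.sum_mul]
    rw [Finset.sum_comm]
    refine Finset.sum_congr rfl fun k _ => ?_
    conv_lhs => rw [← pack_slot (hB k).1]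
    rw [Finset.mul_sum]
    exact Finset.sum_congr rfl fun l _ => (mul_assoc _ _ _).symm
  rw [h, slot_pack _ (fun l => ?_)]
  · simp [dec]
  · calc ∑ k : Fin 7, slot (row A i) k * slot (row B k) l ≤ ∑ _k : Fin 7, 10 * 10 :=
        Finset.sum_le_sum fun k _ => Nat.mul_le_mul (Nat.le_of_lt_succ ((hA i).2 k))
          (Nat.le_of_lt_succ ((hB k).2 l))
      _ < base := by norm_num

theorem eq_of_eqb {A B : M7} (h : eqb A B = true) : A = B := by
  cases A
  cases B
  simp only [eqb, Bool.and_eq_true] at h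
  obtain ⟨⟨⟨⟨⟨⟨h0, h1⟩, h2⟩, h3⟩, h4⟩, h5⟩, h6⟩ := h
  rw [Nat.eq_of_beq_eq_true h0, Nat.eq_of_beq_eq_true h1, Nat.eq_of_beq_eq_true h2,
    Nat.eq_of_beq_eq_true h3, Nat.eq_of_beq_eq_true h4, Nat.eq_of_beq_eq_true h5,
    Nat.eq_of_beq_eq_true h6]

end CfsgLib.J1
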