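import Cfsg.Agent.J1.Group
import Cfsg.Agent.J1.CheckC0
import Cfsg.Agent.J1.CheckC1
import Cfsg.Agent.J1.CheckC2
import Cfsg.Agent.J1.CheckC3
import Cfsg.Agent.J1.CheckC4

/-!
# Element orders of `J₁`

The orders of elements of `Cfsg.Spor.J1` are exactly 1, 2, 3, 5, 6, 7, 10, 11, 15, 19.
-/

namespace CfsgLib.J1

open Cfsg.Spor

theorem pw_spec {A : M7} (hA : WF A) :
    ∀ n, WF (pw n A) ∧ dec (pw n A) = dec A ^ n
  | 0 => ⟨inJ_one.1, by rw [pow_zero]; exact dec_mOne⟩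
  | 1 => ⟨hA, by rw [pow_one]; rfl⟩
  | n + 2 => by
    obtain ⟨h1, h2⟩ := pw_spec hA (n + 1)
    refine ⟨wf_mul _ _, ?_⟩
    rw [show pw (n + 2) A = mul (pw (n + 1) A) A from rfl, dec_mul h1 hA, h2, ← pow_succ]

/-- The double coset representative with index `c`, as a group element. -/
noncomputable def dG (c : Fin 5) : GL (Fin 7) (ZMod 11) :=
  tG ⟨repTab.get c, miscFacts.2.2.2.2.2.2.2.2.2.2.2 c c.2⟩

theorem coe_dG (c : Fin 5) : (dG c : Matrix (Fin 7) (Fin 7) (ZMod 11)) = dec (dT c) := coe_tG _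

theorem wf_dT (c : Fin 5) : WF (dT c) :=
  (inJ_tT _ (miscFacts.2.2.2.2.2.2.2.2.2.2.2 c c.2)).1

/-- One exponent of `6, 7, 10, 11, 15, 19` kills `g`. -/
def HasExp {G : Type*} [Monoid G] (g : G) : Prop :=
  ∃ n ∈ [6, 7, 10, 11, 15, 19], g ^ n = 1

theorem okExp_spec {n : ℕ} (h : okExp n = true) : n ∈ [6, 7, 10, 11, 15, 19] := by
  simp only [okExp, Bool.or_eq_true, or_assoc] at h
  rcases h with h | h | h | h | h | h <;> simp [Nat.eq_of_beq_eq_true h]

theorem HasExp.conj {G : Type*} [Group G] {g : G} (h : HasExp g) (k : G) :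
    HasExp (k * g * k⁻¹) := by
  obtain ⟨n, hn, hg⟩ := h
  exact ⟨n, hn, by rw [conj_pow, hg, mul_one, mul_inv_cancel]⟩

theorem hasExp_class (c : Fin 5) (tab : BT (ℕ × ℕ × ℕ)) (h : allLt 660 (chkC c tab) = true)
    (l : Fin 660) : HasExp (dG c * hG l) := by
  have hcoe : ∀ l : Fin 660, ((dG c * hG l : GL (Fin 7) (ZMod 11)) : Matrix _ _ _) =
      dec (mul (dT c) (hT l)) := fun l => by
    rw [Units.val_mul, coe_dG, coe_hG, dec_mul (wf_dT c) (inJ_hT _ l.2).1]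
  have base : ∀ l : Fin 660, okExp (tab.get l).1 = true → HasExp (dG c * hG l) := by
    intro l hok
    have hl := allLt_spec h l l.2
    have h0 : Nat.beq (tab.get l).1 0 = false := by
      have := okExp_spec hok
      cases hb : Nat.beq (tab.get (l : ℕ)).1 0
      · rfl
      · rw [Nat.eq_of_beq_eq_true hb] at this; simp at this
    rw [chkC, h0, cond_false, Bool.and_eq_true] at hl
    refine ⟨_, okExp_spec hl.1, Units.ext ?_⟩
    rw [Units.val_pow_eq_pow_val, hcoe, ← (pw_spec (wf_mul _ _) _).2, eq_of_eqb hl.2, dec_mOne]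
    rfl
  have hl := allLt_spec h l l.2
  cases hb : Nat.beq (tab.get (l : ℕ)).1 0
  · rw [chkC, hb, cond_false, Bool.and_eq_true] at hl
    exact base l hl.1
  · rw [chkC, hb, cond_true] at hl
    simp only [Bool.and_eq_true] at hl
    obtain ⟨⟨⟨h1, h2⟩, h3⟩, h4⟩ := hl
    have h1' := Nat.le_of_ble_eq_true h1
    have h2' := Nat.le_of_ble_eq_true h2
    have hR := base ⟨_, h1'⟩ h3
    have heq : dG c * hG l * hG ⟨_, h2'⟩ = hG ⟨_, h2'⟩ * (dG c * hG ⟨_, h1'⟩) := Units.ext (by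
      rw [Units.val_mul, Units.val_mul (hG _), hcoe, hcoe, coe_hG,
        ← dec_mul (wf_mul _ _) (inJ_hT _ h2').1, ← dec_mul (inJ_hT _ h2').1 (wf_mul _ _)]
      exact congrArg dec (eq_of_eqb h4))
    rw [show dG c * hG l = hG ⟨_, h2'⟩ * (dG c * hG ⟨_, h1'⟩) * (hG ⟨_, h2'⟩)⁻¹ from
      eq_mul_inv_of_mul_eq heq]
    exact hR.conj _

theorem hasExp_of_mem {g : GL (Fin 7) (ZMod 11)} (hg : g ∈ J1) : HasExp g := by
  obtain ⟨i, l, rfl⟩ := exists_eq_tG_mul_hG hg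
  obtain ⟨-, -, -, -, -, hp, hc, hs, heq⟩ := tFacts i.2
  have hdec : tG i = hG ⟨_, hp⟩ * dG ⟨_, hc⟩ * hG ⟨_, hs⟩ := Units.ext (by
    rw [Units.val_mul, Units.val_mul, coe_tG, coe_hG, coe_hG, coe_dG,
      ← dec_mul (inJ_hT _ hp).1 (wf_dT _), ← dec_mul (wf_mul _ _) (inJ_hT _ hs).1, heq])
  obtain ⟨a, ha⟩ := hG_mul ⟨_, hs⟩ l
  obtain ⟨b, hb⟩ := hG_mul a ⟨_, hp⟩
  have key : HasExp (dG ⟨_, hc⟩ * hG b) := by
    generalize (⟨(tDec.get (i : ℕ)).2.1, hc⟩ : Fin 5) = c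
    match c with
    | 0 => exact hasExp_class 0 cls0 chkC0_all b
    | 1 => exact hasExp_class 1 cls1 chkC1_all b
    | 2 => exact hasExp_class 2 cls2 chkC2_all b
    | 3 => exact hasExp_class 3 cls3 chkC3_all b
    | 4 => exact hasExp_class 4 cls4 chkC4_all b
  have hconj := key.conj (hG ⟨_, hp⟩)
  rwa [← hb, ← ha, show hG ⟨_, hp⟩ * (dG ⟨_, hc⟩ * (hG ⟨_, hs⟩ * hG l * hG ⟨_, hp⟩)) * (hG ⟨_, hp⟩)⁻¹
    = hG ⟨_, hp⟩ * dG ⟨_, hc⟩ * hG ⟨_, hs⟩ * hG l by group, ← hdec] at hconj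

theorem exists_orderOf_witness : ∀ n ∈ [6, 7, 10, 11, 15, 19], ∃ g : J1, orderOf g = n := by
  intro n hn
  have hw : n ∈ witTab.map Prod.fst := by
    revert hn
    simp [witTab]
    omega
  obtain ⟨⟨m, c, l⟩, hmem, hmn⟩ := List.mem_map.1 hw
  change m = n at hmn
  subst hmn
  have h := List.all_eq_true.1 chkWit_ok _ hmem
  simp only [Bool.and_eq_true] at h
  obtain ⟨⟨⟨hc, hl⟩, h1⟩, h2⟩ := h
  have hc' := Nat.le_of_ble_eq_true hc
  have hl' := Nat.le_of_ble_eq_true hl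
  let g : J1 := ⟨dG ⟨c, hc'⟩ * hG ⟨l, hl'⟩, mul_mem (tG_mem _) (hG_mem _)⟩
  have hA := wf_mul (dT c) (hT l)
  have hcoe : ((g : GL (Fin 7) (ZMod 11)) : Matrix _ _ _) = dec (mul (dT c) (hT l)) := by
    show Units.val (dG ⟨c, hc'⟩ * hG ⟨l, hl'⟩) = _
    rw [Units.val_mul, coe_dG, coe_hG, dec_mul (wf_dT ⟨c, hc'⟩) (inJ_hT _ hl').1]
  have hpow : ∀ k, g ^ k = 1 ↔ dec (pw k (mul (dT c) (hT l))) = 1 := fun k => by
    rw [(pw_spec hA k).2, ← hcoe, ← Units.val_pow_eq_pow_val, ← Subgroup.coe_pow,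
      Units.val_eq_one, OneMemClass.coe_eq_one]
  refine ⟨g, (orderOf_eq_iff (by simp at hn; omega)).2 ⟨?_, fun k hk hk0 hgk => ?_⟩⟩
  · rw [hpow]
    exact (congrArg dec (eq_of_eqb h1)).trans dec_mOne
  · have h3 := allLt_spec h2 k hk
    simp only [Bool.or_eq_true, Bool.not_eq_true'] at h3
    rcases h3 with h3 | h3
    · exact absurd (Nat.eq_of_beq_eq_true h3) (by omega)
    · have heq : pw k (mul (dT c) (hT l)) = mOne :=
        hT_mul.eq_of_dec (pw_spec hA k).1 inJ_one.1 (((hpow k).1 hgk).trans dec_mOne.symm)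
      rw [heq] at h3
      exact absurd h3 (by decide +kernel)

/-- The spectrum of `J₁`. -/
theorem range_orderOf_J1 :
    Set.range (orderOf : J1 → ℕ) = {n | n ∈ [1, 2, 3, 5, 6, 7, 10, 11, 15, 19]} := by
  ext n
  constructor
  · rintro ⟨⟨g, hg⟩, rfl⟩
    rw [Subgroup.orderOf_mk]
    obtain ⟨m, hm, h⟩ := hasExp_of_mem hg
    have hd := orderOf_dvd_of_pow_eq_one h
    have hmem : orderOf g ∈ m.divisors := Nat.mem_divisors.2 ⟨hd, fun h0 => by simp [h0] at hm⟩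
    revert hmem
    generalize orderOf g = k
    simp only [List.mem_cons, List.not_mem_nil, or_false] at hm
    rcases hm with rfl | rfl | rfl | rfl | rfl | rfl <;> revert k <;> decide +kernel
  · intro hn
    have pick : ∀ m k : ℕ, m ∈ [6, 7, 10, 11, 15, 19] → k ∣ m → ∃ g : J1, orderOf g = k := by
      intro m k hm hk
      obtain ⟨g, hg⟩ := exists_orderOf_witness m hm
      subst hg
      exact ⟨g ^ (orderOf g / k), orderOf_pow_orderOf_div (by
        intro h0; rw [h0] at hm; simp at hm) hk⟩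
    simp only [Set.mem_ofPred_eq, List.mem_cons, List.not_mem_nil, or_false] at hn
    rcases hn with rfl | rfl | rfl | rfl | rfl | rfl | rfl | rfl | rfl | rfl
    · exact pick 6 1 (by simp) (by norm_num)
    · exact pick 6 2 (by simp) (by norm_num)
    · exact pick 6 3 (by simp) (by norm_num)
    · exact pick 10 5 (by simp) (by norm_num)
    · exact pick 6 6 (by simp) (by norm_num)
    · exact pick 7 7 (by simp) (by norm_num)
    · exact pick 10 10 (by simp) (by norm_num)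
    · exact pick 11 11 (by simp) (by norm_num)
    · exact pick 15 15 (by simp) (by norm_num)
    · exact pick 19 19 (by simp) (by norm_num)

end CfsgLib.J1
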