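import Cfsg.Agent.J1.Mat

/-! Balanced trees used as tables in kernel-checked certificates. -/

namespace CfsgLib.J1

/-- A binary tree with numbers at the nodes. -/
inductive BT (α : Type) where
  | leaf (x : α)
  | node (n : ℕ) (l r : BT α)

/-- Indexing: a node holds the size of its left subtree. -/
def BT.get {α : Type} : BT α → ℕ → α
  | .leaf x, _ => x
  | .node n l r, i => bif Nat.blt i n then l.get i else r.get (i - n)

/-- Searching: a node holds the least key of its right subtree. -/
def BT.search {α : Type} : BT α → ℕ → α
  | .leaf x, _ => x
  | .node n l r, k => bif Nat.blt k n then l.search k else r.search k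

/-- Check a predicate below a bound. -/
def allLt : ℕ → (ℕ → Bool) → Bool
  | 0, _ => true
  | n + 1, f => f n && allLt n f

theorem allLt_spec {n : ℕ} {f : ℕ → Bool} (h : allLt n f = true) : ∀ i, i < n → f i = true := by
  induction n with
  | zero => intro i hi; omega
  | succ n ih =>
    simp only [allLt, Bool.and_eq_true] at h
    intro i hi
    rcases Nat.lt_succ_iff_lt_or_eq.1 hi with hi | rfl
    · exact ih h.2 i hi
    · exact h.1

end CfsgLib.J1
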